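import Cfsg.Agent.Coprime.HalfFixed.Main
import Cfsg.Agent.Coprime.Sylow
import Cfsg.Agent.PGroups.Basic
import Cfsg.Agent.Components.Cores
import Cfsg.Agent.Components.Signalizer.Basic

/-!
A maximal solvable subgroup generated by two conjugates of `P` has its Fitting subgroup centralising
every normalised group of coprime prime power order.
-/

set_option autoImplicit false
set_option linter.style.haveILetI false
set_option linter.unusedSectionVars false

namespace Cfsg.Lib.HalfFixed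

open Subgroup Cfsg.Lib.Coprime
open scoped commutatorElement

universe u

variable {G : Type u} [Group G] [Finite G]

theorem normalizer_le_map_of_characteristic (R : Subgroup G) (K : Subgroup R) [K.Characteristic] :
    normalizer (R : Set G) ≤ normalizer ((K.map R.subtype : Subgroup G) : Set G) := by
  intro g hg
  refine Subgroup.mem_normalizer_fintype ?_
  rintro _ ⟨y, hy, rfl⟩
  have h := Subgroup.characteristic_iff_map_le.1 (inferInstance : K.Characteristic)
    (R.normalizerMonoidHom ⟨g, hg⟩)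
  exact ⟨R.normalizerMonoidHom ⟨g, hg⟩ y, h ⟨y, hy, rfl⟩, rfl⟩

/-- the configuration with a complemented irreducible module is impossible -/
theorem split_false {A V Q P : Subgroup G} {p r : ℕ} [Fact p.Prime] [Fact r.Prime] (hp : 3 < p)
    (hP : Nat.card P = p) (hsol : Group.IsSolvable A) (hAV : A ≤ normalizer (V : Set G))
    (hcomm : ∀ a ∈ V, ∀ b ∈ V, a * b = b * a) (hexp : ∀ v ∈ V, v ^ r = 1) (hne : V ≠ ⊥)
    (hinf : A ⊓ V = ⊥)
    (hirr : ∀ W : Subgroup G, W ≤ V → A ≤ normalizer (W : Set G) → W = ⊥ ∨ W = V)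
    (hQA : Q ≤ A) (hQn : A ≤ normalizer (Q : Set G)) (hcop : (Nat.card Q).Coprime (Nat.card V))
    (hQfix : V ⊓ centralizer (Q : Set G) = ⊥) {a : G} (ha : a ∈ A)
    (hgen : A = P ⊔ P.map (MulAut.conj a).toMonoidHom)
    (hB : ∀ v ∈ V, P ⊔ P.map (MulAut.conj (a * v)).toMonoidHom ≠ A ⊔ V) : False := by
  classical
  have hPA : P ≤ A := le_sup_left.trans hgen.ge
  have hconjV : ∀ g ∈ A, ∀ v ∈ V, g * v * g⁻¹ ∈ V := fun g hg v hv => (mem_normalizer_iff.1 (hAV hg) v).1 hv
  set C := V ⊓ centralizer (P : Set G) with hC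
  have hcover : ∀ v ∈ V, ∃ c ∈ C, ∃ c' ∈ C, v = a⁻¹ * c * a * c' := by
    intro v hv
    set B := P ⊔ P.map (MulAut.conj (a * v)).toMonoidHom with hBdef
    have hav : a * v ∈ A ⊔ V := mul_mem (mem_sup_left ha) (mem_sup_right hv)
    have hBle : B ≤ A ⊔ V := sup_le (hPA.trans le_sup_left) (by
      rintro _ ⟨y, hy, rfl⟩
      exact mul_mem (mul_mem hav (mem_sup_left (hPA hy))) (inv_mem hav))
    have hBV : B ⊔ V = A ⊔ V := by
      refine le_antisymm (sup_le hBle le_sup_right) (sup_le ?_ le_sup_right)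
      rw [hgen]
      refine sup_le (le_sup_left.trans le_sup_left) ?_
      rintro _ ⟨y, hy, rfl⟩
      show a * y * a⁻¹ ∈ B ⊔ V
      have e : a * y * a⁻¹ = (a * v * a⁻¹)⁻¹ * ((a * v) * y * (a * v)⁻¹) * (a * v * a⁻¹) := by group
      rw [e]
      exact mul_mem (mul_mem (inv_mem (mem_sup_right (hconjV a ha v hv)))
        (mem_sup_left (le_sup_right (a := P) ⟨y, hy, rfl⟩))) (mem_sup_right (hconjV a ha v hv))
    have hsupn : A ⊔ V ≤ normalizer (V : Set G) := sup_le hAV le_normalizer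
    have hBn : B ≤ normalizer (V : Set G) := hBle.trans hsupn
    have hBVbot : B ⊓ V = ⊥ := by
      have hn : A ≤ normalizer ((B ⊓ V : Subgroup G) : Set G) := by
        refine le_trans (le_sup_left.trans hBV.ge) (sup_le (le_normalizer_inf le_normalizer hBn) ?_)
        intro w hw
        refine Subgroup.mem_normalizer_fintype fun y hy => ?_
        rw [hcomm w hw y hy.2, mul_inv_cancel_right]; exact hy
      refine (hirr _ inf_le_right hn).resolve_right fun h => hB v hv ?_
      show B = A ⊔ V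
      rw [← hBV, sup_of_le_left (inf_eq_right.1 h)]
    -- `B` contains a complement of `V` in `QV`
    have hQV : Q ≤ normalizer (V : Set G) := hQA.trans hAV
    set QB := B ⊓ (V ⊔ Q) with hQB
    have hQBsup : V ⊔ QB = V ⊔ Q := by
      rw [hQB, ← sup_inf_dedekind hBn le_sup_left, inf_eq_right]
      exact sup_le le_sup_left ((hQA.trans le_sup_left).trans (by rw [sup_comm V B, hBV]))
    have hcardQB : Nat.card QB = Nat.card Q := by
      have h1 := card_sup_of_inf_eq_bot (N := V) (H := QB) (inf_le_left.trans hBn)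
        (eq_bot_iff.2 (le_trans (le_inf (inf_le_right.trans inf_le_left) inf_le_left) hBVbot.le))
      have h2 := card_sup_coprime hQV hcop.symm
      rw [hQBsup, h2] at h1
      exact (Nat.eq_of_mul_eq_mul_left Nat.card_pos h1).symm
    obtain ⟨w, hw, hwQ⟩ := exists_conj_eq_of_coprime hQV hcop.symm
      (Or.inl (Group.isSolvable_of_comm fun a b : V => Subtype.ext (hcomm a a.2 b b.2))) inf_le_right hcardQB
    -- conjugating back into `A`
    have key : ∀ b ∈ B, w⁻¹ * b * w ∈ A := by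
      intro b hb
      set b' := w⁻¹ * b * w with hb'
      have hwN : w ∈ A ⊔ V := mem_sup_right hw
      have hb'N : b' ∈ A ⊔ V := mul_mem (mul_mem (inv_mem hwN) (hBle hb)) hwN
      rw [sup_comm] at hb'N
      obtain ⟨u, hu, g, hg, hug⟩ := (mem_sup_of_le_normalizer hAV).1 hb'N
      suffices hu1 : u = 1 by rw [← hug, hu1, one_mul]; exact hg
      -- `b'` normalises `Q`
      have hQBn : ∀ y ∈ QB, b * y * b⁻¹ ∈ QB := by
        intro y hy
        have hb1 : b * y * b⁻¹ ∈ B := B.mul_mem (B.mul_mem hb hy.1) (B.inv_mem hb)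
        refine ⟨hb1, ?_⟩
        have hVQn : A ⊔ V ≤ normalizer ((V ⊔ Q : Subgroup G) : Set G) :=
          sup_le (le_normalizer_sup hAV hQn) (le_sup_left.trans le_normalizer)
        exact (mem_normalizer_iff.1 (hVQn (hBle hb)) y).1 hy.2
      have hb'Q : ∀ y ∈ Q, b' * y * b'⁻¹ ∈ Q := by
        intro y hy
        have h1 : w * y * w⁻¹ ∈ QB := by rw [hQB, hwQ, mem_conjMap]; simpa [mul_assoc] using hy
        have h2 := hQBn _ h1
        rw [hQB, hwQ, mem_conjMap] at h2
        have e : b' * y * b'⁻¹ = w⁻¹ * (b * (w * y * w⁻¹) * b⁻¹) * w := by rw [hb']; group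
        rw [e]; exact h2
      have huQ : u ∈ V ⊓ centralizer (Q : Set G) := by
        refine ⟨hu, mem_centralizer_iff.2 fun y hy => ?_⟩
        obtain ⟨y', hy', rfl⟩ : ∃ y' ∈ Q, g * y' * g⁻¹ = y :=
          ⟨g⁻¹ * y * g, (mem_normalizer_iff''.1 (hQn hg) y).1 hy, by group⟩
        set z := g * y' * g⁻¹
        have h1 : u * z * u⁻¹ ∈ Q := by
          have := hb'Q y' hy'
          rw [← hug] at this
          convert this using 1
          simp only [z]; group
        have h2 : u * z * u⁻¹ * z⁻¹ ∈ Q := mul_mem h1 (inv_mem hy)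
        have h3 : u * z * u⁻¹ * z⁻¹ ∈ V := by
          have : u * z * u⁻¹ * z⁻¹ = u * (z * u⁻¹ * z⁻¹) := by group
          rw [this]
          exact mul_mem hu (hconjV z (hQA hy) _ (inv_mem hu))
        have h4 := eq_one_of_coprime hcop h2 h3
        rw [mul_inv_eq_one, mul_inv_eq_iff_eq_mul] at h4
        exact h4.symm
      rw [hQfix, mem_bot] at huQ
      exact huQ
    have fixed : ∀ u ∈ V, (∀ y ∈ P, u * y * u⁻¹ ∈ A) → u ∈ C := by
      intro u hu h
      refine ⟨hu, mem_centralizer_iff.2 fun y hy => ?_⟩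
      have h1 : u * y * u⁻¹ * y⁻¹ ∈ A := mul_mem (h y hy) (inv_mem (hPA hy))
      have h2 : u * y * u⁻¹ * y⁻¹ ∈ V := by
        have : u * y * u⁻¹ * y⁻¹ = u * (y * u⁻¹ * y⁻¹) := by group
        rw [this]
        exact mul_mem hu (hconjV y (hPA hy) _ (inv_mem hu))
      have h3 : u * y * u⁻¹ * y⁻¹ = 1 := mem_bot.1 (hinf.le ⟨h1, h2⟩)
      rw [mul_inv_eq_one, mul_inv_eq_iff_eq_mul] at h3
      exact h3.symm
    have hwC : w ∈ C := by
      have := fixed w⁻¹ (inv_mem hw) fun y hy => by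
        rw [inv_inv]; exact key y (le_sup_left (b := P.map _) hy)
      simpa using C.inv_mem this
    set w' := a⁻¹ * w⁻¹ * a with hw'
    have hw'V : w' ∈ V := by
      have := hconjV a⁻¹ (inv_mem ha) _ (inv_mem hw)
      simpa [hw'] using this
    have hwv : w' * v ∈ C := fixed _ (mul_mem hw'V hv) fun y hy => by
      have h1 := key ((a * v) * y * (a * v)⁻¹) (le_sup_right (a := P) ⟨y, hy, rfl⟩)
      have h2 : a⁻¹ * (w⁻¹ * (a * v * y * (a * v)⁻¹) * w) * a ∈ A := mul_mem (mul_mem (inv_mem ha) h1) ha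
      convert h2 using 1
      rw [hw']; group
    refine ⟨w, hwC, w' * v, hwv, ?_⟩
    rw [hw']; group
  -- linear algebra
  letI : CommGroup V := { mul_comm := fun a b => Subtype.ext (hcomm a a.2 b b.2) }
  letI : Module (ZMod r) (Additive V) := AddCommGroup.zmodModule (n := r)
    (fun v => Subtype.ext (hexp _ (Additive.toMul v).2) : ∀ v : Additive V, (Additive.toMul v) ^ r = 1)
  let act : A →* MulAut V := V.normalizerMonoidHom.comp (Subgroup.inclusion hAV)
  let τ : A →* Module.End (ZMod r) (Additive V) :=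
    { toFun := fun g => AddMonoidHom.toZModLinearMap r (MonoidHom.toAdditive (act g).toMonoidHom)
      map_one' := LinearMap.ext fun t => by
        show Additive.ofMul (act 1 t.toMul) = t
        rw [map_one]; rfl
      map_mul' := fun g h => LinearMap.ext fun t => by
        show Additive.ofMul (act (g * h) t.toMul) = Additive.ofMul (act g (act h t.toMul))
        rw [map_mul]; rfl }
  have hτ : ∀ (g : A) (v : V), ((Additive.toMul (τ g (Additive.ofMul v)) : V) : G) = g * v * (g : G)⁻¹ :=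
    fun g v => rfl
  haveI : IsCyclic P := isCyclic_of_prime_card hP
  obtain ⟨⟨x, hxP⟩, hx⟩ := IsCyclic.exists_generator (α := P)
  have hPx : P ≤ zpowers x := fun g hg => by
    obtain ⟨n, hn⟩ := mem_zpowers_iff.1 (hx ⟨g, hg⟩)
    exact mem_zpowers_iff.2 ⟨n, by simpa using congrArg Subtype.val hn⟩
  set xA : A := ⟨x, hPA hxP⟩
  have hgenA : normalClosure {xA} = ⊤ := by
    have hxmem : x ∈ (normalClosure {xA}).map A.subtype :=
      ⟨xA, subset_normalClosure (Set.mem_singleton _), rfl⟩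
    have hPle : P ≤ (normalClosure {xA}).map A.subtype := hPx.trans (zpowers_le.2 hxmem)
    rw [eq_top_iff, ← map_le_map_iff_of_injective A.subtype_injective, ← MonoidHom.range_eq_map, range_subtype]
    conv_lhs => rw [hgen]
    refine sup_le hPle ?_
    rintro _ ⟨y, hy, rfl⟩
    obtain ⟨y', hy', rfl⟩ := hPle hy
    exact ⟨⟨a, ha⟩ * y' * ⟨a, ha⟩⁻¹, (normalClosure_normal).conj_mem y' hy' _, rfl⟩
  have hxp : xA ^ p = 1 := by
    refine Subtype.ext ?_
    have : (⟨x, hxP⟩ : P) ^ p = 1 := by rw [← hP]; exact pow_card_eq_one'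
    simpa using congrArg Subtype.val this
  have hτx : τ xA ≠ 1 := by
    intro h
    have hker : τ.ker = ⊤ := by
      rw [eq_top_iff, ← hgenA]
      exact normalClosure_le_normal (Set.singleton_subset_iff.2 (MonoidHom.mem_ker.2 h))
    refine hne (eq_bot_iff.2 fun v hv => hQfix.le ⟨hv, mem_centralizer_iff.2 fun y hy => ?_⟩)
    have h1 : τ ⟨y, hQA hy⟩ = 1 := MonoidHom.mem_ker.1 (hker.ge (mem_top _))
    have h2 := hτ ⟨y, hQA hy⟩ ⟨v, hv⟩
    rw [h1] at h2
    exact (eq_mul_inv_iff_mul_eq.1 h2).symm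
  have hirrτ : Irr τ := by
    intro U hU
    let W : Subgroup G :=
      { carrier := {g | ∃ h : g ∈ V, Additive.ofMul (⟨g, h⟩ : V) ∈ U}
        one_mem' := ⟨V.one_mem, U.zero_mem⟩
        mul_mem' := fun {a b} ⟨ha, ha'⟩ ⟨hb, hb'⟩ => ⟨V.mul_mem ha hb, U.add_mem ha' hb'⟩
        inv_mem' := fun {a} ⟨ha, ha'⟩ => ⟨V.inv_mem ha, U.neg_mem ha'⟩ }
    have hWn : A ≤ normalizer (W : Set G) := fun g hg => Subgroup.mem_normalizer_fintype fun y ⟨hy, hy'⟩ =>
      ⟨hconjV g hg y hy, hU ⟨g, hg⟩ _ hy'⟩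
    rcases hirr W (fun g hg => hg.1) hWn with h | h
    · left
      rw [Submodule.eq_bot_iff]
      intro t ht
      have : ((Additive.toMul t : V) : G) ∈ W := ⟨(Additive.toMul t).2, ht⟩
      rw [h, mem_bot] at this
      exact Additive.toMul.injective (Subtype.ext this)
    · right
      rw [eq_top_iff]
      intro t _
      obtain ⟨_, ht⟩ := h.ge (Additive.toMul t).2
      exact ht
  haveI : Group.IsSolvable A := hsol
  have hbound := fixed_lt_half hp τ hirrτ hgenA hxp hτx
  set K := LinearMap.ker (τ xA - 1)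
  let f : K × K →ₗ[ZMod r] Additive V :=
    LinearMap.coprod ((τ ⟨a, ha⟩⁻¹) ∘ₗ K.subtype) K.subtype
  have hf : Function.Surjective f := by
    intro t
    obtain ⟨c, hc, c', hc', he⟩ := hcover _ (Additive.toMul t).2
    have hmemK : ∀ (u : G) (hu : u ∈ C), Additive.ofMul (⟨u, hu.1⟩ : V) ∈ K := fun u hu => by
      rw [LinearMap.mem_ker, LinearMap.sub_apply, sub_eq_zero]
      refine Additive.toMul.injective (Subtype.ext ((hτ xA ⟨u, hu.1⟩).trans ?_))
      show x * u * x⁻¹ = u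
      rw [mem_centralizer_iff.1 hu.2 x hxP, mul_inv_cancel_right]
    refine ⟨(⟨_, hmemK c hc⟩, ⟨_, hmemK c' hc'⟩), Additive.toMul.injective (Subtype.ext ?_)⟩
    rw [he]
    show ((⟨a, ha⟩⁻¹ : A) : G) * c * ((⟨a, ha⟩⁻¹ : A) : G)⁻¹ * c' = _
    simp
  have h1 := LinearMap.finrank_range_le f
  rw [LinearMap.range_eq_top.2 hf, finrank_top, Module.finrank_prod] at h1
  omega

theorem centralizes_of_maximal {p : ℕ} [Fact p.Prime] (hp : 3 < p) (P : Subgroup G) (hP : Nat.card P = p)
    (A : Subgroup G) (hsolA : Group.IsSolvable A) {a : G} (ha : a ∈ A)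
    (hgen : A = P ⊔ P.map (MulAut.conj a).toMonoidHom)
    (hmax : ∀ B : Subgroup G, A ≤ B → Group.IsSolvable B →
      (∃ b ∈ B, B = P ⊔ P.map (MulAut.conj b).toMonoidHom) → B = A)
    {q r : ℕ} [Fact q.Prime] [Fact r.Prime] (hqr : q ≠ r) (Q : Subgroup G) (hQA : Q ≤ A)
    (hQn : A ≤ normalizer (Q : Set G)) (hQq : IsPGroup q Q) :
    ∀ (n : ℕ) (R : Subgroup G), Nat.card R = n → IsPGroup r R → A ≤ normalizer (R : Set G) →
      Q ≤ centralizer (R : Set G) := by
  intro n
  induction n using Nat.strong_induction_on with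
  | _ n ih =>
  intro R hn hRr hAR
  classical
  by_contra hcon
  have ih' : ∀ W : Subgroup G, W < R → A ≤ normalizer (W : Set G) → Q ≤ centralizer (W : Set G) :=
    fun W hW hWn => ih _ (hn ▸ lt_of_le_of_ne (card_le_of_le hW.le)
      fun e => hW.ne (Subgroup.eq_of_le_of_card_ge hW.le e.ge)) W rfl (hRr.to_le hW.le) hWn
  have hcop : (Nat.card Q).Coprime (Nat.card R) := by
    obtain ⟨i, hi⟩ := IsPGroup.iff_card.1 hQq
    obtain ⟨j, hj⟩ := IsPGroup.iff_card.1 hRr
    rw [hi, hj]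
    exact Nat.Coprime.pow _ _ ((Nat.coprime_primes Fact.out Fact.out).2 hqr)
  have hQR : Q ≤ normalizer (R : Set G) := hQA.trans hAR
  haveI := hRr.isNilpotent
  have hsolR : Group.IsSolvable R := inferInstance
  have hRQ : ⁅R, Q⁆ = R := by
    by_contra hne
    have hle : ⁅R, Q⁆ ≤ R := commutator_le_of_le_normalizer hQR
    have hn' : A ≤ normalizer ((⁅R, Q⁆ : Subgroup G) : Set G) := fun g hg => by
      rw [mem_normalizer_iff_map_conj_eq, map_commutator, mem_normalizer_iff_map_conj_eq.1 (hAR hg),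
        mem_normalizer_iff_map_conj_eq.1 (hQn hg)]
    have h1 := ih' _ (lt_of_le_of_ne hle hne) hn'
    have h2 : ⁅⁅R, Q⁆, Q⁆ = ⊥ := by
      rw [commutator_comm]; exact commutator_eq_bot_iff_le_centralizer.2 h1
    rw [commutator_commutator_eq hQR hcop (Or.inr hsolR), commutator_comm,
      commutator_eq_bot_iff_le_centralizer] at h2
    exact hcon h2
  -- the Frattini quotient
  set Φ := (frattini R).map R.subtype with hΦ
  have hΦR : Φ ≤ R := map_subtype_le _
  have hΦn : normalizer (R : Set G) ≤ normalizer (Φ : Set G) := normalizer_le_map_of_characteristic R _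
  have hgenR : ∀ L : Subgroup G, L ≤ R → R ≤ L ⊔ Φ → L = R := by
    intro L hL h
    have h2 : L.subgroupOf R ⊔ frattini R = ⊤ := by
      refine top_le_iff.1 ?_
      rw [← map_le_map_iff_of_injective R.subtype_injective, Subgroup.map_sup, map_subgroupOf_eq_of_le hL,
        ← MonoidHom.range_eq_map, range_subtype]
      exact h
    exact le_antisymm hL (subgroupOf_eq_top.1 (frattini_nongenerating (by rwa [sup_comm] at h2 ⊢)))
  set N := normalizer (Φ : Set G) with hN
  haveI : (Φ.subgroupOf N).Normal := normal_in_normalizer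
  set π := QuotientGroup.mk' (Φ.subgroupOf N) with hπ
  have hAN : A ≤ N := hAR.trans hΦn
  have hRN : R ≤ N := le_normalizer.trans hΦn
  let img : Subgroup G → Subgroup (N ⧸ Φ.subgroupOf N) := fun X => (X.subgroupOf N).map π
  have hPA : P ≤ A := le_sup_left.trans hgen.ge
  have hPN : P ≤ N := hPA.trans hAN
  have hQN : Q ≤ N := hQA.trans hAN
  have himgn : ∀ X Y : Subgroup G, Y ≤ normalizer (X : Set G) → img Y ≤ normalizer (img X : Set _) := by
    intro X Y h
    refine (map_mono ?_).trans (le_normalizer_map π)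
    intro y hy
    exact mem_normalizer_iff.2 fun z => mem_normalizer_iff.1 (h hy) z
  have hker : ∀ {g : G} (hg : g ∈ N), π ⟨g, hg⟩ = 1 ↔ g ∈ Φ := fun {g} hg =>
    (QuotientGroup.eq_one_iff (⟨g, hg⟩ : N)).trans mem_subgroupOf
  have hle_img : ∀ X Y : Subgroup G, X ≤ N → img X ≤ img Y → X ≤ Y ⊔ Φ := by
    intro X Y hX h g hg
    obtain ⟨y, hy, he⟩ := h ⟨⟨g, hX hg⟩, hg, rfl⟩
    have h1 : ((y⁻¹ * ⟨g, hX hg⟩ : N) : G) ∈ Φ := (QuotientGroup.eq (s := Φ.subgroupOf N)).1 he
    have : g = (y : G) * ((y⁻¹ * ⟨g, hX hg⟩ : N) : G) := by simp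
    rw [this]
    exact mul_mem (mem_sup_left hy) (mem_sup_right h1)
  haveI : Nontrivial R := (Subgroup.nontrivial_iff_ne_bot R).2 fun h => hcon (by
    intro g _; rw [h]; exact mem_centralizer_iff.2 fun y hy => by rw [mem_bot.1 hy]; simp)
  have hsolA' : Group.IsSolvable (img A) := by
    haveI := hsolA
    haveI : Group.IsSolvable (A.subgroupOf N) :=
      Group.isSolvable_of_surjective (f := (subgroupOfEquivOfLe hAN).symm.toMonoidHom)
        (subgroupOfEquivOfLe hAN).symm.surjective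
    exact Group.isSolvable_of_surjective (π.subgroupMap_surjective (A.subgroupOf N))
  have hdvd : ∀ X : Subgroup G, X ≤ N → Nat.card (img X) ∣ Nat.card X := fun X hX =>
    (card_map_dvd _ _).trans (Nat.card_congr (subgroupOfEquivOfLe hX).toEquiv).dvd
  have hfrat := Cfsg.Lib.PGroups.commutator_le_frattini hRr
  have hcomm : ∀ u ∈ img R, ∀ v ∈ img R, u * v = v * u := by
    rintro _ ⟨u, hu, rfl⟩ _ ⟨v, hv, rfl⟩
    rw [← map_mul, ← map_mul]
    refine (QuotientGroup.eq).2 ?_
    show (((u * v)⁻¹ * (v * u) : N) : G) ∈ Φ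
    have : (((u * v)⁻¹ * (v * u) : N) : G) = ((⁅(⟨_, hv⟩ : R)⁻¹, (⟨_, hu⟩ : R)⁻¹⁆ : R) : G) := by
      simp [commutatorElement_def, mul_assoc]
    rw [this]
    exact ⟨_, hfrat (commutator_mem_commutator (mem_top _) (mem_top _)), rfl⟩
  have hexp : ∀ u ∈ img R, u ^ r = 1 := by
    rintro _ ⟨u, hu, rfl⟩
    rw [← map_pow]
    refine (QuotientGroup.eq_one_iff (u ^ r : N)).2 ?_
    show ((u ^ r : N) : G) ∈ Φ
    exact ⟨(⟨_, hu⟩ : R) ^ r, Cfsg.Lib.PGroups.pow_mem_frattini hRr _, by simp⟩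
  have hne : img R ≠ ⊥ := by
    intro h
    have h1 := hle_img R ⊥ hRN (h.le.trans bot_le)
    have h2 := hgenR ⊥ bot_le h1
    exact (Subgroup.nontrivial_iff_ne_bot R).1 inferInstance h2.symm
  have hcop' : (Nat.card (img Q)).Coprime (Nat.card (img R)) :=
    (hcop.coprime_dvd_left (hdvd Q hQN)).coprime_dvd_right (hdvd R hRN)
  have hQfix : img R ⊓ centralizer (img Q : Set _) = ⊥ := by
    haveI : IsMulCommutative (img R) := ⟨⟨fun u v => Subtype.ext (hcomm u u.2 v v.2)⟩⟩
    have hd := abelian_coprime_decomp (himgn R Q hQR) hcop'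
    have hc : ⁅img R, img Q⁆ = img R := by
      show ⁅(R.subgroupOf N).map π, (Q.subgroupOf N).map π⁆ = (R.subgroupOf N).map π
      rw [← map_commutator]
      congr 1
      apply map_injective N.subtype_injective
      rw [map_commutator, map_subgroupOf_eq_of_le hRN, map_subgroupOf_eq_of_le hQN]
      exact hRQ
    have h1 := hd.1
    rw [eq_bot_iff]
    intro u hu
    rw [← h1]
    exact ⟨hu, hc.ge hu.1⟩
  have hirr : ∀ W : Subgroup (N ⧸ Φ.subgroupOf N), W ≤ img R → img A ≤ normalizer (W : Set _) →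
      W = ⊥ ∨ W = img R := by
    intro W hW hWn
    set X : Subgroup G := (W.comap π ⊓ R.subgroupOf N).map N.subtype with hX
    have hXR : X ≤ R := by rintro _ ⟨y, hy, rfl⟩; exact hy.2
    have hXn : A ≤ normalizer (X : Set G) := by
      intro g hg
      refine Subgroup.mem_normalizer_fintype ?_
      rintro _ ⟨y, hy, rfl⟩
      refine ⟨⟨g, hAN hg⟩ * y * ⟨g, hAN hg⟩⁻¹, ⟨?_, (mem_normalizer_iff.1 (hAR hg) _).1 hy.2⟩, rfl⟩
      show π _ ∈ W
      rw [map_mul, map_mul, map_inv]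
      exact (mem_normalizer_iff.1 (hWn ⟨⟨g, hAN hg⟩, hg, rfl⟩) _).1 hy.1
    rcases eq_or_ne X R with h | h
    · right
      refine le_antisymm hW ?_
      rintro _ ⟨y, hy, rfl⟩
      obtain ⟨y', hy', he⟩ := h.ge (show (y : G) ∈ R from hy)
      rw [← (show y' = y from Subtype.ext he)]
      exact hy'.1
    · left
      rw [eq_bot_iff, ← hQfix]
      intro u hu
      refine ⟨hW hu, mem_centralizer_iff.2 ?_⟩
      obtain ⟨y, hy, rfl⟩ := hW hu
      rintro _ ⟨z, hz, rfl⟩
      have h2 := ih' X (lt_of_le_of_ne hXR h) hXn (show (z : G) ∈ Q from hz)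
      have h3 := mem_centralizer_iff.1 h2 y ⟨y, ⟨hu, hy⟩, rfl⟩
      rw [← map_mul, ← map_mul]
      exact congrArg π (Subtype.ext h3.symm)
  have hinf : img A ⊓ img R = ⊥ := by
    set D := A ⊓ R with hD
    have hAD : A ≤ normalizer (D : Set G) := le_normalizer_inf le_normalizer hAR
    have hDlt : D < R := lt_of_le_of_ne inf_le_right fun h => by
      have hRA : R ≤ A := inf_eq_right.1 h
      refine hcon fun g hg => mem_centralizer_iff.2 fun y hy => ?_
      have h1 : ⁅y, g⁆ ∈ R ⊓ Q := ⟨commutator_le_of_le_normalizer hQR (commutator_mem_commutator hy hg),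
        Q.mul_mem ((mem_normalizer_iff.1 (hQn (hRA hy)) g).1 hg) (Q.inv_mem hg)⟩
      rw [Cfsg.Lib.Coprime.inf_eq_bot_of_coprime hcop.symm, mem_bot] at h1
      exact commutatorElement_eq_one_iff_mul_comm.1 h1
    rw [eq_bot_iff]
    rintro _ ⟨⟨g, hg, rfl⟩, y, hy, he⟩
    have h1 : ((y⁻¹ * g : N) : G) ∈ Φ := (QuotientGroup.eq (s := Φ.subgroupOf N)).1 he
    have hgR : (g : G) ∈ R := by
      have : (g : G) = (y : G) * ((y⁻¹ * g : N) : G) := by simp
      rw [this]; exact mul_mem hy (hΦR h1)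
    -- `D ⊔ Φ ≠ R` is invariant, so fixed by `Q`
    have hlt : D ⊔ Φ < R := lt_of_le_of_ne (sup_le hDlt.le hΦR) fun h => hDlt.ne (hgenR D hDlt.le h.ge)
    have hn' : A ≤ normalizer ((D ⊔ Φ : Subgroup G) : Set G) := le_normalizer_sup hAD (hAR.trans hΦn)
    have h2 := ih' _ hlt hn'
    rw [← hQfix]
    refine ⟨⟨g, hgR, rfl⟩, mem_centralizer_iff.2 ?_⟩
    rintro _ ⟨z, hz, rfl⟩
    have h3 := mem_centralizer_iff.1 (h2 (show (z : G) ∈ Q from hz)) g (mem_sup_left ⟨hg, hgR⟩)
    rw [← map_mul, ← map_mul]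
    exact congrArg π (Subtype.ext h3.symm)
  have himgP : Nat.card (img P) = p := by
    have h1 := hdvd P hPN
    rw [hP] at h1
    refine ((Nat.dvd_prime Fact.out).1 h1).resolve_left fun h => ?_
    -- otherwise `A` is trivial on `R/Φ`
    have hPbot : img P = ⊥ := Subgroup.card_eq_one.1 h
    have hPΦ : P ≤ Φ := by
      refine (hle_img P ⊥ hPN (hPbot.le.trans bot_le)).trans ?_
      rw [bot_sup_eq]
    have hPR : P ≤ R := hPΦ.trans hΦR
    have hAleR : A ≤ R := by
      conv_lhs => rw [hgen]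
      refine sup_le hPR ?_
      rintro _ ⟨y, hy, rfl⟩
      exact (mem_normalizer_iff.1 (hAR ha) y).1 (hPR hy)
    refine hcon fun g hg => ?_
    have : g ∈ Q ⊓ R := ⟨hg, hAleR (hQA hg)⟩
    rw [Cfsg.Lib.Coprime.inf_eq_bot_of_coprime hcop, mem_bot] at this
    rw [this]; exact one_mem _
  have hmapconj : ∀ (g : G) (hg : g ∈ N) (X : Subgroup G), X ≤ N →
      img (X.map (MulAut.conj g).toMonoidHom) = (img X).map (MulAut.conj (π ⟨g, hg⟩)).toMonoidHom := by
    intro g hg X hX
    apply le_antisymm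
    · rintro _ ⟨y, hy, rfl⟩
      obtain ⟨x, hx, he⟩ := hy
      refine ⟨π ⟨x, hX hx⟩, ⟨_, hx, rfl⟩, ?_⟩
      show π ⟨g, hg⟩ * π ⟨x, hX hx⟩ * (π ⟨g, hg⟩)⁻¹ = π y
      rw [← map_inv, ← map_mul, ← map_mul]
      exact congrArg π (Subtype.ext he)
    · rintro _ ⟨_, ⟨y, hy, rfl⟩, rfl⟩
      refine ⟨⟨g, hg⟩ * y * ⟨g, hg⟩⁻¹, ⟨y, hy, rfl⟩, ?_⟩
      rw [map_mul, map_mul, map_inv]
      rfl
  have himgsup : ∀ X Y : Subgroup G, X ≤ N → Y ≤ N → img (X ⊔ Y) = img X ⊔ img Y := by
    intro X Y hX hY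
    show ((X ⊔ Y).subgroupOf N).map π = _
    rw [subgroupOf_sup hX hY, Subgroup.map_sup]
  have haN : a ∈ N := hAN ha
  have hPa : P.map (MulAut.conj a).toMonoidHom ≤ N := (le_sup_right.trans hgen.ge).trans hAN
  refine split_false (A := img A) (V := img R) (Q := img Q) (P := img P) (r := r) hp himgP hsolA'
    (himgn R A hAR) hcomm hexp hne hinf hirr (map_mono fun y hy => hQA hy) (himgn Q A hQn) hcop' hQfix
    (a := π ⟨a, haN⟩) ⟨_, ha, rfl⟩ ?_ ?_
  · rw [← hmapconj a haN P hPN, ← himgsup _ _ hPN hPa, ← hgen]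
  · rintro _ ⟨v, hv, rfl⟩ he
    set g : G := a * v with hg
    have hgN : g ∈ N := mul_mem haN v.2
    have hgP : P.map (MulAut.conj g).toMonoidHom ≤ N := by
      rintro _ ⟨y, hy, rfl⟩
      exact mul_mem (mul_mem hgN (hPN hy)) (inv_mem hgN)
    rw [show π ⟨a, haN⟩ * π v = π ⟨g, hgN⟩ from (map_mul π _ _).symm, ← hmapconj g hgN P hPN,
      ← himgsup _ _ hPN hgP, ← himgsup _ _ hAN hRN] at he
    set B := P ⊔ P.map (MulAut.conj g).toMonoidHom with hBdef
    have hgAR : g ∈ A ⊔ R := mul_mem (mem_sup_left ha) (mem_sup_right hv)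
    have hBle : B ≤ A ⊔ R := sup_le (hPA.trans le_sup_left) (by
      rintro _ ⟨y, hy, rfl⟩
      exact mul_mem (mul_mem hgAR (mem_sup_left (hPA hy))) (inv_mem hgAR))
    have hARn : A ⊔ R ≤ normalizer (Φ : Set G) := sup_le hAN hRN
    have hBn : B ≤ normalizer (Φ : Set G) := hBle.trans hARn
    have h1 : A ⊔ R ≤ B ⊔ Φ := hle_img _ _ (sup_le hAN hRN) he.ge
    have hRB : R ≤ B := by
      have h2 : R ≤ (Φ ⊔ B) ⊓ R := le_inf (le_sup_right.trans (h1.trans (by rw [sup_comm]))) le_rfl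
      rw [sup_inf_dedekind hBn hΦR] at h2
      rw [← hgenR (B ⊓ R) inf_le_right (by rwa [sup_comm])]
      exact inf_le_left
    have hBeq : B = A ⊔ R := le_antisymm hBle (h1.trans (sup_le le_rfl (hΦR.trans hRB)))
    have hsolB : Group.IsSolvable ↥(A ⊔ R : Subgroup G) := by
      rw [sup_comm]
      exact Cfsg.Lib.Signalizer.isSolvable_sup hAR hsolR hsolA
    have := hmax (A ⊔ R) le_sup_left hsolB ⟨g, hgAR, hBeq.symm⟩
    have hRA : R ≤ A := le_sup_right.trans this.le
    refine hcon fun z hz => mem_centralizer_iff.2 fun y hy => ?_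
    have h1 : ⁅y, z⁆ ∈ R ⊓ Q := ⟨commutator_le_of_le_normalizer hQR (commutator_mem_commutator hy hz),
      Q.mul_mem ((mem_normalizer_iff.1 (hQn (hRA hy)) z).1 hz) (Q.inv_mem hz)⟩
    rw [Cfsg.Lib.Coprime.inf_eq_bot_of_coprime hcop.symm, mem_bot] at h1
    exact commutatorElement_eq_one_iff_mul_comm.1 h1

end Cfsg.Lib.HalfFixed
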