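import Cfsg.Agent.Coprime.HalfFixed.Orbits

/-!
Fixed vectors of an element of prime order when an abelian normal subgroup is not scalar.
-/

set_option autoImplicit false
set_option linter.style.haveILetI false
set_option linter.unusedSectionVars false

namespace Cfsg.Lib.HalfFixed

open Module

universe u v w

variable {k : Type u} [Field k] {V : Type v} [AddCommGroup V] [Module k V] [FiniteDimensional k V]

theorem blocks {Ω : Type*} [Fintype Ω] [DecidableEq Ω] {W : Ω → Submodule k V} (hind : iSupIndep W)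
    (htop : ⨆ i, W i = ⊤) {d : ℕ} (hd : ∀ i, finrank k (W i) = d) :
    finrank k V = Fintype.card Ω * d ∧
    ∀ (p : ℕ) [Fact p.Prime] (f : End k V) (σ : Equiv.Perm Ω), σ ^ p = 1 →
      (∀ i, ∀ v ∈ W i, f v ∈ W (σ i)) →
      p * finrank k (LinearMap.ker (f - 1)) ≤
        (Fintype.card Ω + (p - 1) * (Finset.univ.filter fun i => σ i = i).card) * d := by
  classical
  let Φ : (∀ i, W i) →ₗ[k] V := ∑ i, (W i).subtype ∘ₗ LinearMap.proj i
  have hΦ : ∀ u, Φ u = ∑ i, (u i : V) := fun u => by simp [Φ]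
  have hinj : Function.Injective Φ := by
    refine (injective_iff_map_eq_zero Φ).2 fun u hu => funext fun i => Subtype.ext ?_
    rw [hΦ, ← Finset.add_sum_erase _ _ (Finset.mem_univ i), add_eq_zero_iff_eq_neg] at hu
    refine Submodule.disjoint_def.1 (hind i) _ (u i).2 ?_
    rw [hu]
    exact neg_mem (sum_mem fun j hj =>
      Submodule.mem_iSup_of_mem j (Submodule.mem_iSup_of_mem (Finset.ne_of_mem_erase hj) (u j).2))
  have hsurj : Function.Surjective Φ := by
    rw [← LinearMap.range_eq_top, eq_top_iff, ← htop, iSup_le_iff]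
    intro i v hv
    refine ⟨Pi.single i ⟨v, hv⟩, ?_⟩
    rw [hΦ, Finset.sum_eq_single i (fun j _ hj => by rw [Pi.single_eq_of_ne hj]; rfl) (by simp),
      Pi.single_eq_same]
  let e := LinearEquiv.ofBijective Φ ⟨hinj, hsurj⟩
  refine ⟨?_, fun p _ f σ hσ hf => ?_⟩
  · rw [← e.finrank_eq, Module.finrank_pi_fintype, Finset.sum_congr rfl fun i _ => hd i,
      Finset.sum_const, Finset.card_univ, smul_eq_mul]
  obtain ⟨R, hR, hRc⟩ := exists_transversal σ hσ
  rw [← hRc, mul_assoc]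
  refine Nat.mul_le_mul_left _ ?_
  let g : LinearMap.ker (f - 1) →ₗ[k] (∀ r : R, W (r : Ω)) :=
    (LinearMap.pi fun r : R => LinearMap.proj (r : Ω)) ∘ₗ e.symm.toLinearMap ∘ₗ Submodule.subtype _
  have hg : Function.Injective g := by
    refine (injective_iff_map_eq_zero g).2 fun v hv => Subtype.ext ?_
    set u := e.symm (v : V)
    have hu : Φ u = v := e.apply_symm_apply _
    have hstep : ∀ i, (u (σ i) : V) = f (u i) := by
      intro i
      let u' : ∀ j, W j := fun j => ⟨f (u (σ⁻¹ j)), by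
        have h := hf _ _ (u (σ⁻¹ j)).2
        rwa [Equiv.Perm.coe_inv, Equiv.apply_symm_apply] at h⟩
      have : Φ u' = Φ u := by
        rw [hu, hΦ, Equiv.sum_comp σ⁻¹ (fun j => f (u j)), ← map_sum, ← hΦ, hu]
        exact sub_eq_zero.1 (LinearMap.mem_ker.1 v.2)
      have h1 : f (u (σ⁻¹ (σ i))) = (u (σ i) : V) := congrArg Subtype.val (congrFun (hinj this) (σ i))
      rw [← h1, perm_inv_apply]
    have hu0 : u = 0 := funext fun i => by
      obtain ⟨r, hr, j, rfl⟩ := hR i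
      induction j with
      | zero => exact congrFun hv ⟨r, hr⟩
      | succ j ih =>
        refine Subtype.ext ?_
        rw [pow_succ', Equiv.Perm.mul_apply, hstep, ih]
        simp
    rw [← hu, hu0, map_zero]; rfl
  refine (LinearMap.finrank_le_finrank_of_injective hg).trans_eq ?_
  rw [Module.finrank_pi_fintype]
  simp only [hd, Finset.sum_const, Finset.card_univ, Fintype.card_coe, smul_eq_mul]


variable {G : Type w} [Group G]

/-- an irreducible action -/
def Irr (ρ : G →* End k V) : Prop :=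
  ∀ W : Submodule k V, (∀ g, ∀ v ∈ W, ρ g v ∈ W) → W = ⊥ ∨ W = ⊤

theorem exists_minimal_invariant (ρ : G →* End k V) {U : Submodule k V} (hU : U ≠ ⊥)
    (hinv : ∀ g, ∀ v ∈ U, ρ g v ∈ U) :
    ∃ W ≤ U, W ≠ ⊥ ∧ (∀ g, ∀ v ∈ W, ρ g v ∈ W) ∧
      ∀ W' ≤ W, (∀ g, ∀ v ∈ W', ρ g v ∈ W') → W' = ⊥ ∨ W' = W := by
  obtain ⟨W, ⟨hWU, hW, hWinv⟩, hmin⟩ := (InvImage.wf (fun W : Submodule k V => finrank k W)
    Nat.lt_wfRel.wf).has_min {W | W ≤ U ∧ W ≠ ⊥ ∧ ∀ g, ∀ v ∈ W, ρ g v ∈ W} ⟨U, le_rfl, hU, hinv⟩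
  refine ⟨W, hWU, hW, hWinv, fun W' hle hinv' => or_iff_not_imp_left.2 fun hne => ?_⟩
  exact Submodule.eq_of_le_of_finrank_le hle
    (not_lt.1 (hmin W' ⟨hle.trans hWU, hne, hinv'⟩))

/-- a common eigenvector for commuting operators -/
theorem exists_weight [IsAlgClosed k] [Nontrivial V] {N : Type*} [Group N] (ρ : N →* End k V)
    (hc : ∀ a b : N, a * b = b * a) : ∃ χ : N → k, ⨅ n, (ρ n).eigenspace (χ n) ≠ ⊥ := by
  obtain ⟨W, -, hW, hWinv, hmin⟩ := exists_minimal_invariant ρ (U := ⊤) top_ne_bot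
    (fun _ _ _ => Submodule.mem_top)
  haveI : Nontrivial W := Submodule.nontrivial_iff_ne_bot.2 hW
  have hex : ∀ n, ∃ c : k, W ≤ (ρ n).eigenspace c := by
    intro n
    obtain ⟨c, hc'⟩ := End.exists_eigenvalue ((ρ n).restrict (hWinv n))
    obtain ⟨v, hv⟩ := hc'.exists_hasEigenvector
    refine ⟨c, ?_⟩
    have hinv : ∀ m, ∀ w ∈ W ⊓ (ρ n).eigenspace c, ρ m w ∈ W ⊓ (ρ n).eigenspace c := by
      intro m w hw
      refine ⟨hWinv m w hw.1, ?_⟩
      show ρ m w ∈ (ρ n).eigenspace c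
      rw [End.mem_eigenspace_iff, ← End.mul_apply, ← map_mul, hc n m, map_mul, End.mul_apply,
        End.mem_eigenspace_iff.1 hw.2, map_smul]
    rcases hmin (W ⊓ (ρ n).eigenspace c) inf_le_left hinv with h | h
    · refine absurd ?_ hv.2
      have : (v : V) ∈ W ⊓ (ρ n).eigenspace c :=
        ⟨v.2, End.mem_eigenspace_iff.2 (congrArg Subtype.val hv.apply_eq_smul)⟩
      rw [h, Submodule.mem_bot] at this
      exact Subtype.ext this
    · exact h.ge.trans inf_le_right
  choose χ hχ using hex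
  exact ⟨χ, ne_bot_of_le_ne_bot hW (le_iInf hχ)⟩

theorem apply_inv_apply (ρ : G →* End k V) (g : G) (v : V) : ρ g⁻¹ (ρ g v) = v := by
  rw [← End.mul_apply, ← map_mul, inv_mul_cancel, map_one, End.one_apply]

theorem mapsTo_maxGen {N : Type*} [Group N] (ρ : N →* End k V) (hc : ∀ a b : N, a * b = b * a) (i j : N) (c : k)
    (v : V) (hv : v ∈ (ρ j).maxGenEigenspace c) : ρ i v ∈ (ρ j).maxGenEigenspace c := by
  rw [End.mem_maxGenEigenspace] at hv ⊢
  obtain ⟨m, hm⟩ := hv
  refine ⟨m, ?_⟩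
  have h1 : Commute (ρ i) ((ρ j - c • (1 : End k V)) ^ m) := by
    refine Commute.pow_right (Commute.sub_right ?_ ((Commute.one_right _).smul_right c)) m
    show ρ i * ρ j = ρ j * ρ i
    rw [← map_mul, ← map_mul, hc]
  rw [← End.mul_apply, ← h1.eq, End.mul_apply, hm, map_zero]

theorem weights_indep {N : Type*} [Group N] (ρ : N →* End k V) (hc : ∀ a b : N, a * b = b * a) :
    iSupIndep fun χ : N → k => ⨅ n, (ρ n).eigenspace (χ n) := by
  have key : iSupIndep fun χ : N → k => ⨅ n, (ρ n).maxGenEigenspace (χ n) := by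
    refine End.independent_iInf_maxGenEigenspace_of_forall_mapsTo (R := k) (fun n => ρ n) ?_
    intro i j c v hv
    simp only [SetLike.mem_coe] at hv ⊢
    exact mapsTo_maxGen (k := k) (V := V) ρ hc i j c v hv
  exact key.mono fun χ => iInf_mono fun n => (ρ n).eigenspace_le_maxGenEigenspace

theorem abelian_case [IsAlgClosed k] [Nontrivial V] [Finite G] [Group.IsSolvable G] {p : ℕ}
    [Fact p.Prime] (hp : 3 < p) (ρ : G →* End k V) (hirr : Irr ρ) {x : G}
    (hgen : Subgroup.normalClosure {x} = ⊤) (hxp : x ^ p = 1) (N : Subgroup G) [N.Normal]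
    (hN : ∀ a ∈ N, ∀ b ∈ N, a * b = b * a) (hns : ¬ ∀ n ∈ N, ∃ c : k, ρ n = c • 1) :
    2 * finrank k (LinearMap.ker (ρ x - 1)) < finrank k V := by
  classical
  have hc : ∀ a b : N, a * b = b * a := fun a b => Subtype.ext (hN a a.2 b b.2)
  let ρN : N →* End k V := ρ.comp N.subtype
  let W : (N → k) → Submodule k V := fun χ => ⨅ n, (ρN n).eigenspace (χ n)
  have hmem : ∀ χ v, v ∈ W χ ↔ ∀ n : N, ρ n v = χ n • v := fun χ v => by
    simp [W, ρN]
  let act : G → (N → k) → (N → k) := fun g χ n =>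
    χ ⟨g⁻¹ * n * g, by simpa using (inferInstance : N.Normal).conj_mem n n.2 g⁻¹⟩
  have hact : ∀ g χ, ∀ v ∈ W χ, ρ g v ∈ W (act g χ) := by
    intro g χ v hv
    rw [hmem] at hv ⊢
    intro n
    have h := hv ⟨g⁻¹ * n * g, by simpa using (inferInstance : N.Normal).conj_mem n n.2 g⁻¹⟩
    show ρ n (ρ g v) = χ _ • ρ g v
    rw [← map_smul, ← h, ← End.mul_apply, ← End.mul_apply, ← map_mul, ← map_mul]
    congr 2
    group
  have hcomp : ∀ g h χ, act g (act h χ) = act (g * h) χ := fun g h χ => funext fun n =>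
    congrArg χ (Subtype.ext (by show h⁻¹ * (g⁻¹ * n * g) * h = (g * h)⁻¹ * n * (g * h); group))
  have hact1 : ∀ χ, act 1 χ = χ := fun χ => funext fun n => congrArg χ (Subtype.ext (by simp))
  have hne : ∀ g χ, W χ ≠ ⊥ → W (act g χ) ≠ ⊥ := fun g χ h h' => h ((Submodule.eq_bot_iff _).2 fun v hv => by
    have h1 := hact g χ v hv
    rw [h', Submodule.mem_bot] at h1
    rw [← apply_inv_apply ρ g v, h1, map_zero])
  let Ω := {χ : N → k // W χ ≠ ⊥}
  have hind : iSupIndep W := weights_indep ρN hc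
  haveI : Finite Ω := (WellFoundedGT.finite_ne_bot_of_iSupIndep hind).to_subtype
  haveI := Fintype.ofFinite Ω
  let σ : G →* Equiv.Perm Ω :=
    { toFun := fun g => ⟨fun i => ⟨act g i.1, hne g _ i.2⟩, fun i => ⟨act g⁻¹ i.1, hne _ _ i.2⟩,
        fun i => Subtype.ext (by show act g⁻¹ (act g i.1) = i.1; rw [hcomp, inv_mul_cancel, hact1]),
        fun i => Subtype.ext (by show act g (act g⁻¹ i.1) = i.1; rw [hcomp, mul_inv_cancel, hact1])⟩
      map_one' := Equiv.ext fun i => Subtype.ext (hact1 _)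
      map_mul' := fun g h => Equiv.ext fun i => Subtype.ext (hcomp g h _).symm }
  obtain ⟨χ0, hχ0⟩ := exists_weight ρN hc
  -- the orbit spans
  have horb : ⨆ g, W (act g χ0) = ⊤ := by
    refine (hirr _ fun g v hv => ?_).resolve_left (ne_bot_of_le_ne_bot hχ0 ?_)
    · have : (⨆ h, W (act h χ0)) ≤ (⨆ h, W (act h χ0)).comap (ρ g) := iSup_le fun h v hv => by
        have := hact g _ v hv
        rw [hcomp] at this
        exact Submodule.mem_iSup_of_mem _ this
      exact this hv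
    · refine le_trans ?_ (le_iSup _ 1)
      rw [hact1]
  have htr0 : ∀ i : Ω, ∃ g, act g χ0 = i.1 := by
    intro i
    by_contra h
    push Not at h
    refine i.2 (disjoint_top.1 ?_)
    have hd := hind.disjoint_biSup (y := {χ | ∃ g, act g χ0 = χ}) (x := i.1)
      (fun ⟨g, hg⟩ => h g hg)
    refine hd.mono_right ?_
    rw [← horb]
    exact iSup_le fun g => le_biSup W (show act g χ0 ∈ {χ | ∃ g, act g χ0 = χ} from ⟨g, rfl⟩)
  have htr : ∀ i j : Ω, ∃ g, σ g i = j := by
    intro i j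
    obtain ⟨g, hg⟩ := htr0 i
    obtain ⟨h, hh⟩ := htr0 j
    refine ⟨h * g⁻¹, Subtype.ext ?_⟩
    show act (h * g⁻¹) i.1 = j.1
    rw [← hg, hcomp, inv_mul_cancel_right, hh]
  have htop : ⨆ i : Ω, W i.1 = ⊤ := by
    rw [eq_top_iff, ← horb]
    exact iSup_le fun g => le_iSup (fun i : Ω => W i.1) ⟨_, hne g _ hχ0⟩
  haveI : Nontrivial Ω := by
    by_contra h
    rw [not_nontrivial_iff_subsingleton] at h
    refine hns fun n hn => ⟨χ0 ⟨n, hn⟩, LinearMap.ext fun v => ?_⟩
    have : v ∈ W χ0 := by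
      have h0 : ∀ i : Ω, i.1 = χ0 := fun i => congrArg Subtype.val (h.elim i ⟨χ0, hχ0⟩)
      have h2 : ∀ i : Ω, W i.1 ≤ W χ0 := fun i => by rw [h0 i]
      have h1 : v ∈ (⊤ : Submodule k V) := Submodule.mem_top
      rw [← htop] at h1
      exact (iSup_le h2 : (⨆ i : Ω, W i.1) ≤ W χ0) h1
    exact (hmem _ _).1 this ⟨n, hn⟩
  obtain ⟨i0⟩ : Nonempty Ω := inferInstance
  set d := finrank k (W i0.1) with hd0
  have hd : ∀ i : Ω, finrank k (W i.1) = d := by
    have key : ∀ i j : Ω, finrank k (W i.1) ≤ finrank k (W j.1) := fun i j => by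
      obtain ⟨g, rfl⟩ := htr i j
      refine LinearMap.finrank_le_finrank_of_injective
        (f := (ρ g).restrict fun v hv => hact g i.1 v hv) fun a b h => Subtype.ext ?_
      have := congrArg (fun y : W (σ g i).1 => ρ g⁻¹ (y : V)) h
      simpa [LinearMap.restrict_apply, apply_inv_apply] using this
    exact fun i => le_antisymm (key i i0) (key i0 i)
  obtain ⟨hV, hfix⟩ := blocks (hind.comp Subtype.val_injective) htop hd
  have hσp : σ x ^ p = 1 := by rw [← map_pow, hxp, map_one]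
  have h1 := hfix p (ρ x) (σ x) hσp fun i v hv => hact x i.1 v hv
  obtain ⟨m, hm⟩ := (Fact.out : p.Prime).odd_of_ne_two (by omega)
  have hx2 : x ∈ Subgroup.zpowers (x ^ 2) := by
    refine Subgroup.mem_zpowers_iff.2 ⟨(m + 1 : ℕ), ?_⟩
    rw [zpow_natCast, ← pow_mul, show 2 * (m + 1) = p + 1 by omega, pow_succ, hxp, one_mul]
  have h3 := three_fix_le hgen hx2 _ rfl σ htr (ne_one_of_generators σ hgen htr)
  rw [Nat.card_eq_fintype_card, Nat.card_eq_fintype_card, Fintype.card_subtype] at h3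
  have hdpos : 0 < Fintype.card Ω * d := by rw [← hV]; exact finrank_pos
  rw [hV]
  set f := (Finset.univ.filter fun i => σ x i = i).card
  set n := Fintype.card Ω
  set c := finrank k (LinearMap.ker (ρ x - 1))
  obtain ⟨q, rfl⟩ : ∃ q, p = q + 4 := ⟨p - 4, by omega⟩
  rw [show q + 4 - 1 = q + 3 by omega] at h1
  have h4 : 3 * (q + 4) * c ≤ (q + 6) * (n * d) := by
    calc 3 * (q + 4) * c ≤ 3 * ((n + (q + 3) * f) * d) := by linarith
      _ = (3 * n + (q + 3) * (3 * f)) * d := by ring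
      _ ≤ (3 * n + (q + 3) * n) * d := by gcongr
      _ = _ := by ring
  by_contra hlt
  push Not at hlt

  have h5 := Nat.mul_le_mul_left (3 * (q + 4)) hlt
  have hq : 1 ≤ q := by omega
  have h6 := Nat.mul_le_mul_right (n * d) hq
  linarith

end Cfsg.Lib.HalfFixed
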