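import Cfsg.Agent.Coprime.HalfFixed.Blocks

/-!
Fixed vectors versus the commutant of an endomorphism, and the arithmetic of the index.
-/

set_option autoImplicit false
set_option linter.style.haveILetI false
set_option linter.unusedSectionVars false

namespace Cfsg.Lib.HalfFixed

open Module

universe u v w

variable {k : Type u} [Field k] {V : Type v} [AddCommGroup V] [Module k V] [FiniteDimensional k V]

/-- the commutant of `f` is bigger than `Hom(V / [V, f], C_V(f))` -/
theorem sq_fixed_lt {f : End k V} (hf : f ≠ 1) (S : Submodule k (End k V))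
    (hS : ∀ φ : End k V, f * φ = φ * f → φ ∈ S) :
    finrank k (LinearMap.ker (f - 1)) * finrank k (LinearMap.ker (f - 1)) < finrank k S := by
  set C := LinearMap.ker (f - 1) with hC
  set R := LinearMap.range (f - 1) with hR
  have hCf : ∀ v ∈ C, f v = v := fun v hv => sub_eq_zero.1 (LinearMap.mem_ker.1 hv)
  let Θ : ((V ⧸ R) →ₗ[k] C) →ₗ[k] End k V :=
    { toFun := fun φ => C.subtype ∘ₗ φ ∘ₗ R.mkQ
      map_add' := fun φ ψ => by ext v; simp
      map_smul' := fun a φ => by ext v; simp }
  have hinj : Function.Injective Θ := fun φ ψ h => LinearMap.ext fun q => by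
    obtain ⟨v, rfl⟩ := R.mkQ_surjective q
    exact Subtype.ext (LinearMap.congr_fun h v)
  have hquot : finrank k (V ⧸ R) = finrank k C := by
    have h1 := R.finrank_quotient_add_finrank
    have h2 := LinearMap.finrank_range_add_finrank_ker (f - 1)
    rw [← hR, ← hC] at h2
    omega
  have hrange : LinearMap.range Θ < S := by
    refine lt_of_le_of_ne ?_ fun h => ?_
    · rintro _ ⟨φ, rfl⟩
      refine hS _ (LinearMap.ext fun v => ?_)
      show f (φ (R.mkQ v) : V) = (φ (R.mkQ (f v)) : V)
      rw [hCf _ (φ _).2]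
      congr 2
      exact ((Submodule.Quotient.eq R).2 ⟨v, by simp⟩).symm
    · obtain ⟨φ, hφ⟩ := h.ge (hS 1 (by rw [mul_one, one_mul]))
      refine hf (LinearMap.ext fun v => ?_)
      have : (1 : End k V) v ∈ C := by rw [← hφ]; exact (φ _).2
      exact hCf v this
  refine lt_of_eq_of_lt ?_ (Submodule.finrank_lt_finrank_of_lt hrange)
  rw [LinearMap.finrank_range_of_inj hinj, Module.finrank_linearMap, hquot]

/-- the arithmetic bound on the index -/
theorem index_arith {p q I m j : ℕ} (hp : p.Prime) (hp3 : 3 < p) (hq : q.Prime) (hI : I = q ^ j)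
    (hj : 2 ≤ j) (hdvd : p ∣ q ^ m * I - q ^ m) : 4 * (p - 1) ≤ (p - 4) * I := by
  have hp5 : 5 ≤ p := by
    by_contra h
    have : p = 4 := by omega
    subst this
    norm_num at hp
  obtain ⟨a, rfl⟩ : ∃ a, p = a + 5 := ⟨p - 5, by omega⟩
  rw [show a + 5 - 1 = a + 4 by omega, show a + 5 - 4 = a + 1 by omega]
  by_cases hqp : q = a + 5
  · have : (a + 5) ^ 2 ≤ I := by rw [hI, hqp]; exact Nat.pow_le_pow_right (by omega) hj
    nlinarith
  have hIpos : 0 < I := hI ▸ pow_pos hq.pos j
  have h1 : (a + 5) ∣ I - 1 := by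
    rw [show q ^ m * I - q ^ m = q ^ m * (I - 1) by rw [Nat.mul_sub_one]] at hdvd
    exact (hp.dvd_mul.1 hdvd).resolve_left fun h => hqp
      ((Nat.prime_dvd_prime_iff_eq hp hq).1 (hp.dvd_of_dvd_pow h)).symm
  have h2 : 2 ≤ I := hI ▸ le_trans hq.two_le (Nat.le_self_pow (by omega) q)
  have h3 : a + 6 ≤ I := by
    have := Nat.le_of_dvd (by omega) h1
    omega
  rcases Nat.lt_or_ge a 2 with ha | ha
  swap
  · nlinarith
  obtain rfl : a = 0 := by
    rcases (show a = 0 ∨ a = 1 by omega) with rfl | rfl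
    · rfl
    · norm_num at hp
  suffices 16 ≤ I by omega
  by_contra hlt
  obtain ⟨b, hb⟩ := h1
  have h4 : q * q ≤ I := by
    rw [hI, ← pow_two]; exact Nat.pow_le_pow_right hq.pos hj
  have hq4 : q < 4 := by nlinarith
  have hj4 : j < 4 := by
    by_contra h
    have : 2 ^ 4 ≤ q ^ j := le_trans (Nat.pow_le_pow_right (by norm_num) (not_lt.1 h))
      (Nat.pow_le_pow_left hq.two_le j)
    omega
  have hq2 := hq.two_le
  interval_cases q <;> interval_cases j <;> omega

end Cfsg.Lib.HalfFixed
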