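import Cfsg.Agent.Coprime.HalfFixed.Pairing

/-!
Flavell's bound: in a solvable group generated by the conjugates of an element of prime order
`p > 3`, that element fixes less than half of an irreducible module.
-/

set_option autoImplicit false
set_option linter.style.haveILetI false
set_option linter.unusedSectionVars false

namespace Cfsg.Lib.HalfFixed

open Module TensorProduct

universe u v w

theorem lift_ker_injective {G : Type w} [Group G] {M : Type*} [Monoid M] (φ : G →* M) :
    Function.Injective (QuotientGroup.lift φ.ker φ (fun _ hg => hg) : G ⧸ φ.ker →* M) := by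
  intro a b h
  induction a using QuotientGroup.induction_on with
  | H a =>
  induction b using QuotientGroup.induction_on with
  | H b =>
  refine (QuotientGroup.eq).2 (MonoidHom.mem_ker.2 ?_)
  change φ a = φ b at h
  rw [map_mul, ← h, ← map_mul, inv_mul_cancel, map_one]

theorem BoundBelow.mono {p n m : ℕ} (h : BoundBelow.{w} p n) (hm : m ≤ n) : BoundBelow.{w} p m :=
  fun G _ _ _ q _ T _ _ _ τ x hlt => h G q T τ x (lt_of_lt_of_le hlt hm)

/-- the generators and the exponent pass to the quotient by the kernel -/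
theorem quot_gen {G : Type w} [Group G] (K : Subgroup G) [K.Normal] {x : G}
    (hgen : Subgroup.normalClosure {x} = ⊤) : Subgroup.normalClosure {((x : G ⧸ K))} = ⊤ := by
  rw [← Set.image_singleton (f := ((↑) : G → G ⧸ K))]
  show Subgroup.normalClosure (⇑(QuotientGroup.mk' K) '' {x}) = ⊤
  rw [← Subgroup.map_normalClosure _ (QuotientGroup.mk' K)
    (QuotientGroup.mk'_surjective K), hgen, ← MonoidHom.range_eq_map, QuotientGroup.range_mk']

set_option maxHeartbeats 400000 in
theorem closed_case {k : Type u} [Field k] [IsAlgClosed k] {G : Type w} [Group G] [Finite G]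
    [Group.IsSolvable G] {p : ℕ} [Fact p.Prime] (hp : 3 < p) (hT : BoundBelow.{w} p (Nat.card G)) {x : G}
    (hgen : Subgroup.normalClosure {x} = ⊤) (hxp : x ^ p = 1) (M : Subgroup G) [Fintype M]
    (hM : (Fintype.card M : k) ≠ 0) :
    ∀ (n : ℕ) (V : Type v) [AddCommGroup V] [Module k V] [FiniteDimensional k V] [Nontrivial V]
      (ρ : G →* End k V), finrank k V = n → ∑ m : M, ρ m = 0 →
      2 * finrank k (LinearMap.ker (ρ x - 1)) < finrank k V := by
  intro n
  induction n using Nat.strong_induction_on with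
  | _ n ih =>
  intro V _ _ _ _ ρ hn hsum
  obtain ⟨W, -, hW, hWinv, hWmin⟩ := exists_minimal_invariant ρ (U := ⊤) top_ne_bot
    (fun _ _ _ => Submodule.mem_top)
  by_cases hWtop : W = ⊤
  · subst hWtop
    set K := ρ.ker
    let ρ' : G ⧸ K →* End k V := QuotientGroup.lift K ρ (fun _ hg => hg)
    have hρ' : Function.Injective ρ' := lift_ker_injective ρ
    have hx : ρ x ≠ 1 := fun h => by
      have hker : K = ⊤ := top_le_iff.1 (hgen ▸
        Subgroup.normalClosure_le_normal (Set.singleton_subset_iff.2 (MonoidHom.mem_ker.2 h)))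
      have h1 : ∀ m : M, ρ m = 1 := fun m => MonoidHom.mem_ker.1 (hker.ge (Subgroup.mem_top (m : G)))
      rw [Finset.sum_congr rfl (fun m _ => h1 m), Finset.sum_const, Finset.card_univ,
        ← Nat.cast_smul_eq_nsmul k, smul_eq_zero] at hsum
      exact hsum.elim hM one_ne_zero
    have hle : Nat.card (G ⧸ K) ≤ Nat.card G := Nat.card_le_card_of_surjective _ (QuotientGroup.mk_surjective)
    haveI : Group.IsSolvable (G ⧸ K) := Group.isSolvable_of_surjective (QuotientGroup.mk'_surjective K)
    have hirr' : Irr ρ' := fun U hU => hWmin U le_top fun g v hv => hU (g : G ⧸ K) v hv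
    have hρx : ρ' (x : G ⧸ K) = ρ x := rfl
    have hx' : ρ' (x : G ⧸ K) ≠ 1 := by rw [hρx]; exact hx
    have hxp' : (x : G ⧸ K) ^ p = 1 := by rw [← QuotientGroup.mk_pow, hxp, QuotientGroup.mk_one]
    have hT' : BoundBelow.{w} p (Nat.card (G ⧸ K)) := hT.mono hle
    have hres := core hp hT' ρ' hρ' hirr' (quot_gen K hgen) hxp' hx'
    rw [hρx] at hres
    exact hres
  let ρW : G →* End k W :=
    { toFun := fun g => (ρ g).restrict (hWinv g)
      map_one' := LinearMap.ext fun v => Subtype.ext (by simp [LinearMap.restrict_apply])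
      map_mul' := fun g h => LinearMap.ext fun v => Subtype.ext (by simp [LinearMap.restrict_apply]) }
  let ρQ : G →* End k (V ⧸ W) :=
    { toFun := fun g => W.mapQ W (ρ g) (fun v hv => hWinv g v hv)
      map_one' := LinearMap.ext fun v => by
        obtain ⟨v, rfl⟩ := W.mkQ_surjective v; simp
      map_mul' := fun g h => LinearMap.ext fun v => by
        obtain ⟨v, rfl⟩ := W.mkQ_surjective v; simp }
  haveI : Nontrivial W := Submodule.nontrivial_iff_ne_bot.2 hW
  haveI : Nontrivial (V ⧸ W) := Submodule.Quotient.nontrivial_iff.2 hWtop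
  have hlt1 : finrank k W < n := hn ▸ Submodule.finrank_lt hWtop
  have hadd := W.finrank_quotient_add_finrank
  have hWpos : 0 < finrank k W := finrank_pos
  have hW1 := ih _ hlt1 W ρW rfl (LinearMap.ext fun v => Subtype.ext (by
    have := LinearMap.congr_fun hsum (v : V)
    simpa [ρW, LinearMap.sum_apply, LinearMap.restrict_apply] using this))
  have hQ1 := ih _ (by omega) (V ⧸ W) ρQ rfl (LinearMap.ext fun v => by
    obtain ⟨v, rfl⟩ := W.mkQ_surjective v
    have := congrArg W.mkQ (LinearMap.congr_fun hsum v)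
    simpa [ρQ, LinearMap.sum_apply, map_sum] using this)
  set C := LinearMap.ker (ρ x - 1)
  let g : C →ₗ[k] V ⧸ W := W.mkQ ∘ₗ C.subtype
  have hCx : ∀ v : C, ρ x v = v := fun v => sub_eq_zero.1 (LinearMap.mem_ker.1 v.2)
  have h1 : finrank k (LinearMap.range g) ≤ finrank k (LinearMap.ker (ρQ x - 1)) := by
    refine Submodule.finrank_mono ?_
    rintro _ ⟨v, rfl⟩
    rw [LinearMap.mem_ker, LinearMap.sub_apply, sub_eq_zero]
    show W.mapQ W (ρ x) (fun v hv => hWinv x v hv) (W.mkQ v) = W.mkQ v
    rw [Submodule.mkQ_apply, Submodule.mapQ_apply, hCx]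
  have h2 : finrank k (LinearMap.ker g) ≤ finrank k (LinearMap.ker (ρW x - 1)) := by
    let e : LinearMap.ker g →ₗ[k] LinearMap.ker (ρW x - 1) :=
      { toFun := fun v => ⟨⟨(v : C), (Submodule.Quotient.mk_eq_zero W).1 v.2⟩, by
          rw [LinearMap.mem_ker, LinearMap.sub_apply, sub_eq_zero]
          exact Subtype.ext (hCx v.1)⟩
        map_add' := fun a b => rfl
        map_smul' := fun a b => rfl }
    exact LinearMap.finrank_le_finrank_of_injective (f := e) fun a b h =>
      Subtype.ext (Subtype.ext (congrArg (fun y : LinearMap.ker (ρW x - 1) => ((y : W) : V)) h))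
  have h3 := LinearMap.finrank_range_add_finrank_ker g
  omega


set_option maxHeartbeats 400000 in
theorem any_field {k : Type u} [Field k] {V : Type v} [AddCommGroup V] [Module k V]
    [FiniteDimensional k V] {G : Type w} [Group G] [Finite G]
    [Group.IsSolvable G] {p : ℕ} [Fact p.Prime] (hp : 3 < p) (hT : BoundBelow.{w} p (Nat.card G))
    (ρ : G →* End k V) (hirr : Irr ρ) {x : G} (hgen : Subgroup.normalClosure {x} = ⊤) (hxp : x ^ p = 1)
    (hx : ρ x ≠ 1) : 2 * finrank k (LinearMap.ker (ρ x - 1)) < finrank k V := by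
  classical
  set K := ρ.ker
  let ρ' : G ⧸ K →* End k V := QuotientGroup.lift K ρ (fun _ hg => hg)
  have hρ' : Function.Injective ρ' := lift_ker_injective ρ
  haveI : Nontrivial V := by
    rw [← not_subsingleton_iff_nontrivial]
    intro h; exact hx (LinearMap.ext fun v => Subsingleton.elim _ _)
  haveI : Nontrivial (G ⧸ K) := ⟨⟨(x : G ⧸ K), 1, fun h => hx (MonoidHom.mem_ker.1 ((QuotientGroup.eq_one_iff x).1 h))⟩⟩
  haveI : Group.IsSolvable (G ⧸ K) := Group.isSolvable_of_surjective (QuotientGroup.mk'_surjective K)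
  obtain ⟨M, hMn, hM1, hMc⟩ := exists_normal_comm_ne_bot (G ⧸ K)
  haveI := hMn
  haveI := Fintype.ofFinite M
  -- a normal subgroup fixing a vector is trivial
  have hfaith : ∀ R : Subgroup (G ⧸ K), R.Normal → R ≠ ⊥ →
      (⨅ r : R, LinearMap.ker (ρ' r - 1)) = ⊥ := by
    intro R hR hR1
    refine (hirr _ fun g v hv => ?_).resolve_right fun h => hR1 ((Subgroup.eq_bot_iff_forall R).2 fun r hr => hρ' ?_)
    · simp only [Submodule.mem_iInf, LinearMap.mem_ker, LinearMap.sub_apply, End.one_apply, sub_eq_zero] at hv ⊢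
      intro r
      have h1 := hv ⟨(g : G ⧸ K)⁻¹ * r * g, by have h2 := hR.conj_mem r r.2 (g : G ⧸ K)⁻¹; rwa [inv_inv] at h2⟩
      calc ρ' r (ρ g v) = ρ' (g : G ⧸ K) (ρ' ((g : G ⧸ K)⁻¹ * r * g) v) := by
            rw [show ρ g = ρ' (g : G ⧸ K) from rfl, ← End.mul_apply, ← End.mul_apply, ← map_mul, ← map_mul]
            congr 2; group
        _ = _ := by rw [h1]; rfl
    · rw [map_one]
      refine LinearMap.ext fun v => ?_
      have : v ∈ LinearMap.ker (ρ' r - 1) := (Submodule.mem_iInf _).1 (h.ge Submodule.mem_top) ⟨r, hr⟩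
      exact sub_eq_zero.1 (LinearMap.mem_ker.1 this)
  have hcard : (Fintype.card M : k) ≠ 0 := by
    intro h0
    obtain ⟨l, hl⟩ := CharP.exists k
    rcases CharP.char_is_prime_or_zero k l with hlp | rfl
    swap
    · haveI : CharZero k := CharP.charP_to_charZero k
      exact Fintype.card_ne_zero (Nat.cast_eq_zero.1 h0)
    haveI := Fact.mk hlp
    have hdvd : l ∣ Fintype.card M := (CharP.cast_eq_zero_iff k l _).1 h0
    obtain ⟨m, hm⟩ := exists_prime_orderOf_dvd_card l hdvd
    let R : Subgroup (G ⧸ K) :=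
      { carrier := {g | g ∈ M ∧ g ^ l = 1}
        one_mem' := ⟨M.one_mem, one_pow _⟩
        mul_mem' := fun {a b} ha hb => ⟨M.mul_mem ha.1 hb.1, by
          rw [(show Commute a b from hMc a ha.1 b hb.1).mul_pow, ha.2, hb.2, one_mul]⟩
        inv_mem' := fun {a} ha => ⟨M.inv_mem ha.1, by rw [inv_pow, ha.2, inv_one]⟩ }
    have hR : R.Normal := ⟨fun g hg h => ⟨hMn.conj_mem g hg.1 h, by rw [conj_pow, hg.2, mul_one, mul_inv_cancel]⟩⟩
    have hR1 : R ≠ ⊥ := fun h => by
      have hmR : (m : G ⧸ K) ∈ R := ⟨m.2, by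
        rw [← hm, ← Subgroup.orderOf_coe]; exact pow_orderOf_eq_one _⟩
      rw [h, Subgroup.mem_bot] at hmR
      rw [show m = 1 from Subtype.ext hmR, orderOf_one] at hm
      exact hlp.ne_one hm.symm
    obtain ⟨W, -, hW, hWinv, hWmin⟩ := exists_minimal_invariant (ρ'.comp R.subtype) (U := ⊤) top_ne_bot
      (fun _ _ _ => Submodule.mem_top)
    refine hW (le_bot_iff.1 ((le_iInf fun r => ?_).trans (hfaith R hR hR1).le))
    have hinv : ∀ s : R, ∀ v ∈ W ⊓ LinearMap.ker (ρ' r - 1), ρ' s v ∈ W ⊓ LinearMap.ker (ρ' r - 1) := by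
      intro s v hv
      refine ⟨hWinv s v hv.1, ?_⟩
      have h1 : ρ' r v = v := sub_eq_zero.1 (LinearMap.mem_ker.1 hv.2)
      rw [SetLike.mem_coe, LinearMap.mem_ker, LinearMap.sub_apply, End.one_apply, sub_eq_zero, ← End.mul_apply,
        ← map_mul, hMc r r.2.1 s s.2.1, map_mul, End.mul_apply, h1]
    rcases hWmin _ inf_le_left hinv with h | h
    · exfalso
      obtain ⟨v, hv, hv0⟩ := Submodule.exists_mem_ne_zero_of_ne_bot hW
      have hnil : ∀ j : ℕ, ((ρ' r - 1) ^ j) v ∈ W := fun j => by
        induction j with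
        | zero => simpa using hv
        | succ j ih =>
          rw [pow_succ', End.mul_apply, LinearMap.sub_apply, End.one_apply]
          exact W.sub_mem (hWinv r _ ih) ih
      have hl0 : ((ρ' r - 1) ^ l) v = 0 := by
        haveI : CharP (End k V) l := charP_of_injective_ringHom (algebraMap k (End k V)).injective l
        rw [sub_pow_char_of_commute (R := End k V) (p := l) (Commute.one_right _), ← map_pow, r.2.2, map_one, one_pow, sub_self]
        rfl
      have key : ∀ j : ℕ, ((ρ' r - 1) ^ (j + 1)) v = 0 → ((ρ' r - 1) ^ j) v = 0 := fun j hj => by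
        have : ((ρ' r - 1) ^ j) v ∈ W ⊓ LinearMap.ker (ρ' r - 1) :=
          ⟨hnil j, LinearMap.mem_ker.2 (by rw [← End.mul_apply, ← pow_succ']; exact hj)⟩
        rwa [h, Submodule.mem_bot] at this
      have : ∀ j : ℕ, ((ρ' r - 1) ^ j) v = 0 → v = 0 := fun j => by
        induction j with
        | zero => intro h'; simpa using h'
        | succ j ih => exact fun h' => ih (key j h')
      exact hv0 (this l hl0)
    · exact h.ge.trans inf_le_right
  have hsum : ∑ m : M, ρ' m = 0 := by
    refine LinearMap.ext fun v => ?_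
    have hv : (∑ m : M, ρ' m) v ∈ ⨅ r : M, LinearMap.ker (ρ' r - 1) := by
      simp only [Submodule.mem_iInf, LinearMap.mem_ker, LinearMap.sub_apply, End.one_apply, sub_eq_zero]
      intro r
      rw [← End.mul_apply, Finset.mul_sum]
      congr 1
      exact Fintype.sum_equiv (Equiv.mulLeft r) _ _ fun m => (map_mul ρ' _ _).symm
    rw [hfaith M hMn hM1, Submodule.mem_bot] at hv
    exact hv
  -- extend the scalars
  let A := AlgebraicClosure k
  let ρA : G ⧸ K →* End A (A ⊗[k] V) :=
    (End.baseChangeHom k A V : End k V →ₐ[k] End A (A ⊗[k] V)).toMonoidHom.comp ρ'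
  have hAsum : ∑ m : M, ρA m = 0 := by
    show ∑ m : M, End.baseChangeHom k A V (ρ' m) = 0
    rw [← map_sum, hsum, map_zero]
  have hAcard : (Fintype.card M : A) ≠ 0 := by
    rw [← map_natCast (algebraMap k A)]
    exact fun h => hcard ((map_eq_zero _).1 h)
  haveI : Nontrivial (A ⊗[k] V) := Module.nontrivial_of_finrank_pos (R := A)
    (by rw [Module.finrank_baseChange]; exact finrank_pos)
  have hle : Nat.card (G ⧸ K) ≤ Nat.card G := Nat.card_le_card_of_surjective _ (QuotientGroup.mk_surjective)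
  have hmain := closed_case hp (hT.mono hle) (quot_gen K hgen)
    (by rw [← QuotientGroup.mk_pow, hxp, QuotientGroup.mk_one]) M hAcard _ (A ⊗[k] V) ρA rfl hAsum
  rw [Module.finrank_baseChange] at hmain
  refine lt_of_le_of_lt (Nat.mul_le_mul_left 2 ?_) hmain
  set C := LinearMap.ker (ρ x - 1)
  have hinj : Function.Injective (C.subtype.baseChange A) := by
    rw [LinearMap.baseChange_eq_ltensor]
    exact Module.Flat.lTensor_preserves_injective_linearMap _ C.subtype_injective
  rw [← Module.finrank_baseChange (R := A) (S := k) (M' := C), ← LinearMap.finrank_range_of_inj hinj]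
  refine Submodule.finrank_mono ?_
  rintro _ ⟨t, rfl⟩
  rw [LinearMap.mem_ker]
  show (ρA (x : G ⧸ K) - 1) _ = 0
  have e : (ρA (x : G ⧸ K) - 1 : End A (A ⊗[k] V)) ∘ₗ C.subtype.baseChange A = 0 := by
    refine TensorProduct.AlgebraTensorModule.ext fun a c => ?_
    show (ρ x).baseChange A (a ⊗ₜ[k] (c : V)) - a ⊗ₜ[k] (c : V) = 0
    rw [LinearMap.baseChange_tmul, sub_eq_zero, show ρ x c = c from sub_eq_zero.1 (LinearMap.mem_ker.1 c.2)]
  exact LinearMap.congr_fun e t

theorem boundBelow {p : ℕ} [Fact p.Prime] (hp : 3 < p) : ∀ n, BoundBelow.{w} p n := by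
  intro n
  induction n using Nat.strong_induction_on with
  | _ n ih =>
  intro G _ _ _ q _ T _ _ _ τ x hlt hgen hxp hirr hx
  exact any_field hp (ih _ hlt) τ hirr hgen hxp hx

/-- **Flavell**: `dim C_V(x) < dim V / 2` -/
theorem fixed_lt_half {k : Type u} [Field k] {V : Type v} [AddCommGroup V] [Module k V]
    [FiniteDimensional k V] {G : Type w} [Group G] [Finite G] [Group.IsSolvable G] {p : ℕ}
    [Fact p.Prime] (hp : 3 < p) (ρ : G →* End k V) (hirr : Irr ρ) {x : G}
    (hgen : Subgroup.normalClosure {x} = ⊤) (hxp : x ^ p = 1) (hx : ρ x ≠ 1) :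
    2 * finrank k (LinearMap.ker (ρ x - 1)) < finrank k V :=
  any_field hp (boundBelow hp _) ρ hirr hgen hxp hx

end Cfsg.Lib.HalfFixed
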