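import Mathlib

/-!
Counting lemmas for an operator of prime order: fixed points in a transitive solvable permutation
group, and fixed vectors of a map permuting the summands of a direct decomposition.
-/

set_option autoImplicit false
set_option linter.style.haveILetI false
set_option linter.unusedSectionVars false

namespace Cfsg.Lib.HalfFixed

open Subgroup

universe w

theorem perm_inv_apply {α : Type*} (e : Equiv.Perm α) (i : α) : e⁻¹ (e i) = i := e.symm_apply_apply i

theorem exists_normal_comm_ne_bot (H : Type*) [Group H] [Group.IsSolvable H] [Nontrivial H] :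
    ∃ A : Subgroup H, A.Normal ∧ A ≠ ⊥ ∧ ∀ a ∈ A, ∀ b ∈ A, a * b = b * a := by
  classical
  obtain ⟨n, hn⟩ := (Group.isSolvable_def (G := H)).1 inferInstance
  have hex : ∃ n, derivedSeries H n = ⊥ := ⟨n, hn⟩
  have h0 : Nat.find hex ≠ 0 := fun h => by
    have := Nat.find_spec hex
    rw [h, derivedSeries_zero] at this
    exact top_ne_bot this
  obtain ⟨m, hm⟩ : ∃ m, Nat.find hex = m + 1 := ⟨Nat.find hex - 1, by omega⟩
  refine ⟨derivedSeries H m, derivedSeries_normal H m, Nat.find_min hex (by omega), fun a ha b hb => ?_⟩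
  have h := Nat.find_spec hex
  rw [hm, derivedSeries_succ] at h
  exact commutatorElement_eq_one_iff_mul_comm.1 (mem_bot.1 (h.le (commutator_mem_commutator ha hb)))

/-- a generating class acts nontrivially on a nontrivial transitive set -/
theorem ne_one_of_generators {G Ω : Type*} [Group G] [Nontrivial Ω] (ρ : G →* Equiv.Perm Ω) {x : G}
    (hx : normalClosure {x} = ⊤) (htr : ∀ i j, ∃ g, ρ g i = j) : ρ x ≠ 1 := by
  intro h
  have hker : ρ.ker = ⊤ := by
    rw [eq_top_iff, ← hx]
    exact normalClosure_le_normal (Set.singleton_subset_iff.2 (MonoidHom.mem_ker.2 h))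
  obtain ⟨i, j, hij⟩ := exists_pair_ne Ω
  obtain ⟨g, hg⟩ := htr i j
  rw [show ρ g = 1 from MonoidHom.mem_ker.1 (hker ▸ mem_top g)] at hg
  exact hij hg

/-- fixed points of a generator of odd order in a transitive solvable group -/
theorem three_fix_le {G : Type*} [Group G] [Finite G] [Group.IsSolvable G] {x : G}
    (hx : normalClosure {x} = ⊤) (hx2 : x ∈ zpowers (x ^ 2)) :
    ∀ (n : ℕ) {Ω : Type w} [Finite Ω], Nat.card Ω = n → ∀ ρ : G →* Equiv.Perm Ω,
      (∀ i j, ∃ g, ρ g i = j) → ρ x ≠ 1 → 3 * Nat.card {i : Ω // ρ x i = i} ≤ n := by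
  intro n
  induction n using Nat.strong_induction_on with
  | _ n ih =>
  intro Ω _ hn ρ htr hρx
  classical
  set H := ρ.range
  haveI : Group.IsSolvable H := Group.isSolvable_of_surjective ρ.rangeRestrict_surjective
  haveI : Nontrivial H := ⟨⟨ρ.rangeRestrict x, 1, fun h => hρx (congrArg Subtype.val h)⟩⟩
  obtain ⟨A, hA, hA1, hAc⟩ := exists_normal_comm_ne_bot H
  let r : Setoid Ω :=
    { r := fun i j => ∃ a ∈ A, (a : Equiv.Perm Ω) i = j
      iseqv := ⟨fun i => ⟨1, A.one_mem, rfl⟩,
        fun {i j} ⟨a, ha, h⟩ => ⟨a⁻¹, inv_mem ha, by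
          rw [← h]; exact perm_inv_apply _ _⟩,
        fun {i j l} ⟨a, ha, h⟩ ⟨b, hb, h'⟩ => ⟨b * a, mul_mem hb ha, by rw [← h', ← h]; rfl⟩⟩ }
  have hresp : ∀ g, ∀ i j : Ω, r.r i j → r.r (ρ g i) (ρ g j) := by
    rintro g i j ⟨a, ha, h⟩
    refine ⟨ρ.rangeRestrict g * a * (ρ.rangeRestrict g)⁻¹, hA.conj_mem a ha _, ?_⟩
    show ρ g ((a : Equiv.Perm Ω) ((ρ g)⁻¹ (ρ g i))) = ρ g j
    rw [perm_inv_apply, h]
  let f : G → Quotient r → Quotient r := fun g => Quotient.map (ρ g) (hresp g)
  have hf : ∀ g h q, f g (f h q) = f (g * h) q := fun g h q => by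
    induction q using Quotient.ind
    show Quotient.mk r (ρ g (ρ h _)) = Quotient.mk r (ρ (g * h) _)
    rw [map_mul]; rfl
  have hf1 : ∀ q, f 1 q = q := fun q => by
    induction q using Quotient.ind
    show Quotient.mk r (ρ 1 _) = _
    rw [map_one]; rfl
  let ρ' : G →* Equiv.Perm (Quotient r) :=
    { toFun := fun g => ⟨f g, f g⁻¹, fun q => by rw [hf, inv_mul_cancel, hf1],
        fun q => by rw [hf, mul_inv_cancel, hf1]⟩
      map_one' := Equiv.ext hf1
      map_mul' := fun g h => Equiv.ext fun q => (hf g h q).symm }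
  haveI : Fintype Ω := Fintype.ofFinite Ω
  haveI : Fintype (Quotient r) := Fintype.ofFinite _
  by_cases hone : ∀ i j : Ω, r.r i j
  · -- `A` is transitive
    by_cases hfix : ∃ i, ρ x i = i
    swap
    · push Not at hfix
      haveI : IsEmpty {i : Ω // ρ x i = i} := ⟨fun i => hfix i.1 i.2⟩
      simp
    obtain ⟨i0, hi0⟩ := hfix
    have hreg : ∀ a ∈ A, ∀ i, (a : Equiv.Perm Ω) i = i → a = 1 := by
      intro a ha i hai
      refine Subtype.ext (Equiv.ext fun j => ?_)
      obtain ⟨b, hb, rfl⟩ := hone i j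
      show ((a * b : H) : Equiv.Perm Ω) i = _
      rw [hAc a ha b hb]
      show (b : Equiv.Perm Ω) ((a : Equiv.Perm Ω) i) = _
      rw [hai]; rfl
    let e : A ≃ Ω := Equiv.ofBijective (fun a => ((a : H) : Equiv.Perm Ω) i0)
      ⟨fun a b h => Subtype.ext (inv_mul_eq_one.1 (hreg _ (mul_mem (inv_mem a.2) b.2) i0 (by
        show ((a : H) : Equiv.Perm Ω)⁻¹ (((b : H) : Equiv.Perm Ω) i0) = i0
        rw [← show ((a : H) : Equiv.Perm Ω) i0 = ((b : H) : Equiv.Perm Ω) i0 from h, perm_inv_apply]))),
      fun j => by obtain ⟨a, ha, h⟩ := hone i0 j; exact ⟨⟨a, ha⟩, h⟩⟩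
    set y := ρ.rangeRestrict x with hy
    let τ : A ≃* A := MulAut.conjNormal y
    have hτ : ∀ a : A, ρ x (e a) = e (τ a) := fun a => by
      show ρ x (((a : H) : Equiv.Perm Ω) i0) = ((τ a : H) : Equiv.Perm Ω) i0
      rw [MulAut.conjNormal_apply]
      show _ = ρ x (((a : H) : Equiv.Perm Ω) ((ρ x)⁻¹ i0))
      rw [show (ρ x)⁻¹ i0 = i0 from (congrArg (⇑(ρ x)⁻¹) hi0).symm.trans (perm_inv_apply _ _)]
    let C : Subgroup A := τ.toMonoidHom.eqLocus (MonoidHom.id A)
    have hC : Nat.card {i : Ω // ρ x i = i} = Nat.card C :=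
      Nat.card_congr (e.subtypeEquiv fun a => by
        show τ a = a ↔ ρ x (e a) = e a
        rw [hτ, e.injective.eq_iff]).symm
    rw [hC, ← hn, ← Nat.card_congr e, ← C.card_mul_index, mul_comm]
    refine Nat.mul_le_mul_left _ ?_
    have hne1 : C.index ≠ 1 := fun h => by
      rw [Subgroup.index_eq_one] at h
      refine hρx (Equiv.ext fun i => ?_)
      obtain ⟨a, rfl⟩ := e.surjective i
      rw [hτ, show τ a = a from h.ge (mem_top a)]
      rfl
    have hne2 : C.index ≠ 2 := fun h => by
      have hsq : ∀ a : A, τ (τ a) = a := fun a => by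
        have haa : τ (a * a) = a * a := Subgroup.mul_self_mem_of_index_two h a
        by_cases ha : a ∈ C
        · rw [show τ a = a from ha]; exact ha
        have hta : τ a * a⁻¹ ∈ C := by
          rw [Subgroup.mul_mem_iff_of_index_two h]
          refine iff_of_false (fun h' => ha ?_) (fun h' => ha (by simpa using inv_mem h'))
          exact τ.injective h'
        set c := τ a * a⁻¹ with hc
        have hta' : τ a = c * a := by rw [hc, inv_mul_cancel_right]
        have hcomm : ∀ u v : A, u * v = v * u := fun u v => Subtype.ext (hAc u u.2 v v.2)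
        have h2 : c * c = 1 := by
          rw [map_mul, hta'] at haa
          have : c * c * (a * a) = a * a := by
            calc c * c * (a * a) = c * (c * a) * a := by group
              _ = c * (a * c) * a := by rw [hcomm c a]
              _ = c * a * (c * a) := by group
              _ = a * a := haa
          exact mul_eq_right.1 this
        rw [hta', map_mul, hta', show τ c = c from hta, ← mul_assoc, h2, one_mul]
      refine hne1 (Subgroup.index_eq_one.2 (eq_top_iff.2 fun a _ => ?_))
      obtain ⟨k, hk⟩ := mem_zpowers_iff.1 hx2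
      have hτ2 : ∀ a, ((MulAut.conjNormal y : MulAut A) ^ (2 : ℕ)) a = a := fun a => by
        rw [pow_two]; exact hsq a
      show τ a = a
      have e1 : (MulAut.conjNormal y : MulAut A) = ((MulAut.conjNormal y : MulAut A) ^ (2 : ℕ)) ^ k := by
        rw [← map_pow, ← map_zpow]
        congr 1
        exact (congrArg ρ.rangeRestrict hk.symm).trans (by rw [map_zpow, map_pow])
      rw [show ((MulAut.conjNormal y : MulAut A) ^ (2 : ℕ)) = 1 from MulEquiv.ext hτ2, one_zpow] at e1
      show (MulAut.conjNormal y : MulAut A) a = a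
      rw [e1]; rfl
    have := C.index_ne_zero_of_finite
    omega
  push Not at hone
  obtain ⟨i1, j1, hij⟩ := hone
  haveI : Nontrivial (Quotient r) :=
    ⟨⟨Quotient.mk r i1, Quotient.mk r j1, fun h => hij (Quotient.exact h)⟩⟩
  have htr' : ∀ q q', ∃ g, ρ' g q = q' := by
    intro q q'
    induction q using Quotient.ind with
    | _ i =>
    induction q' using Quotient.ind with
    | _ j =>
    obtain ⟨g, hg⟩ := htr i j
    exact ⟨g, congrArg (Quotient.mk r) hg⟩
  obtain ⟨q0⟩ : Nonempty (Quotient r) := inferInstance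
  let F : Quotient r → Finset Ω := fun q => Finset.univ.filter fun i => Quotient.mk r i = q
  have hF : ∀ q, (F q).card = (F q0).card := by
    have key : ∀ q q', (F q).card ≤ (F q').card := fun q q' => by
      obtain ⟨g, rfl⟩ := htr' q q'
      refine Finset.card_le_card_of_injOn (ρ g) (fun i hi => ?_) (ρ g).injective.injOn
      simp only [F, Finset.coe_filter, Finset.mem_univ, true_and, Set.mem_ofPred_eq] at hi ⊢
      subst hi; rfl
    exact fun q => le_antisymm (key q q0) (key q0 q)
  have hsum : n = Nat.card (Quotient r) * (F q0).card := by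
    rw [← hn, Nat.card_eq_fintype_card, Nat.card_eq_fintype_card,
      ← Finset.card_univ (α := Ω), Finset.card_eq_sum_card_fiberwise (f := Quotient.mk r)
        (fun i _ => Finset.mem_univ (Quotient.mk r i)),
      Finset.sum_congr rfl (fun q _ => hF q), Finset.sum_const, Finset.card_univ, smul_eq_mul]
  have hs : 2 ≤ (F q0).card := by
    obtain ⟨a, ha, ha1⟩ := A.bot_or_exists_ne_one.resolve_left hA1
    obtain ⟨i, hi⟩ : ∃ i, (a : Equiv.Perm Ω) i ≠ i := by
      by_contra h
      push Not at h
      exact ha1 (Subtype.ext (Equiv.ext h))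
    rw [← hF (Quotient.mk r i)]
    refine Finset.one_lt_card.2 ⟨i, by simp [F], (a : Equiv.Perm Ω) i, ?_, hi.symm⟩
    simp only [F, Finset.mem_filter, Finset.mem_univ, true_and]
    exact Quotient.sound ⟨a⁻¹, inv_mem ha, perm_inv_apply _ _⟩
  have hlt : Nat.card (Quotient r) < n := by
    have : 1 < Nat.card (Quotient r) := Finite.one_lt_card
    rw [hsum]; nlinarith
  have h3 := ih _ hlt rfl ρ' htr' (ne_one_of_generators ρ' hx htr')
  have hfix : Nat.card {i : Ω // ρ x i = i} ≤ Nat.card {q // ρ' x q = q} * (F q0).card := by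
    rw [Nat.card_eq_fintype_card, Nat.card_eq_fintype_card, Fintype.card_subtype, Fintype.card_subtype,
      mul_comm]
    refine Finset.card_le_mul_card_image_of_maps_to (f := Quotient.mk r) (fun i hi => ?_) _ fun q _ => ?_
    · simp only [Finset.mem_filter, Finset.mem_univ, true_and] at hi ⊢
      exact congrArg (Quotient.mk r) hi
    · rw [← hF q]
      exact Finset.card_le_card fun i hi => by
        simp only [F, Finset.mem_filter, Finset.mem_univ, true_and] at hi ⊢
        exact hi.2
  calc 3 * Nat.card {i : Ω // ρ x i = i} ≤ 3 * (Nat.card {q // ρ' x q = q} * (F q0).card) :=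
        Nat.mul_le_mul_left _ hfix
    _ = (3 * Nat.card {q // ρ' x q = q}) * (F q0).card := by ring
    _ ≤ Nat.card (Quotient r) * (F q0).card := Nat.mul_le_mul_right _ h3
    _ = n := hsum.symm

/-- the number of orbits of a permutation of prime order -/
theorem exists_transversal {Ω : Type*} [Fintype Ω] [DecidableEq Ω] {p : ℕ} [hp : Fact p.Prime]
    (σ : Equiv.Perm Ω) (hσ : σ ^ p = 1) :
    ∃ R : Finset Ω, (∀ i, ∃ r ∈ R, ∃ j : ℕ, (σ ^ j) r = i) ∧
      p * R.card = Fintype.card Ω + (p - 1) * (Finset.univ.filter fun i => σ i = i).card := by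
  classical
  have key : ∀ S : Finset Ω, (∀ i ∈ S, σ i ∈ S) → (∀ i ∈ S, σ i ≠ i) →
      ∃ R : Finset Ω, R ⊆ S ∧ (∀ i ∈ S, ∃ r ∈ R, ∃ j : ℕ, (σ ^ j) r = i) ∧ p * R.card = S.card := by
    intro S
    induction S using Finset.strongInduction with
    | _ S ih =>
    intro hS hne
    rcases S.eq_empty_or_nonempty with rfl | ⟨i, hi⟩
    · exact ⟨∅, subset_rfl, by simp, by simp⟩
    let O : Finset Ω := (Finset.range p).image fun j => (σ ^ j) i
    have hp0 : 0 < p := hp.out.pos
    have hmod : ∀ j : ℕ, σ ^ j = σ ^ (j % p) := fun j => by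
      conv_lhs => rw [← Nat.mod_add_div j p, pow_add, pow_mul, hσ, one_pow, mul_one]
    have hOS : O ⊆ S := by
      intro y hy
      obtain ⟨j, -, rfl⟩ := Finset.mem_image.1 hy
      clear hy
      induction j with
      | zero => simpa
      | succ j ih => rw [pow_succ', Equiv.Perm.mul_apply]; exact hS _ ih
    have hOc : O.card = p := by
      rw [Finset.card_image_of_injOn, Finset.card_range]
      have hinj : ∀ a b, a < b → b < p → (σ ^ a) i ≠ (σ ^ b) i := by
        intro a b hab hb h
        have h1 : (σ ^ (b - a)) i = i := by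
          apply (σ ^ a).injective
          rw [← Equiv.Perm.mul_apply, ← pow_add, Nat.add_sub_cancel' hab.le, h]
        have hper : Function.IsPeriodicPt σ (b - a) i := by
          show σ^[b - a] i = i
          rw [← Equiv.Perm.coe_pow]; exact h1
        have hper' : Function.IsPeriodicPt σ p i := by
          show σ^[p] i = i
          rw [← Equiv.Perm.coe_pow, hσ]; rfl
        have := hper.gcd hper'
        rw [show Nat.gcd (b - a) p = 1 from Nat.Coprime.symm (hp.out.coprime_iff_not_dvd.2
          fun hd => absurd (Nat.le_of_dvd (by omega) hd) (by omega))] at this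
        exact hne i hi this
      intro a ha b hb h
      simp only [Finset.coe_range, Set.mem_Iio] at ha hb
      rcases lt_trichotomy a b with hab | hab | hab
      · exact absurd h (hinj a b hab hb)
      · exact hab
      · exact absurd h.symm (hinj b a hab ha)
    have hmemO : ∀ j : ℕ, (σ ^ j) i ∈ O := fun j =>
      Finset.mem_image.2 ⟨j % p, Finset.mem_range.2 (Nat.mod_lt _ hp0), by rw [← hmod]⟩
    obtain ⟨R, hRS, hR, hRc⟩ := ih (S \ O) (Finset.sdiff_ssubset hOS ⟨i, by simpa using hmemO 0⟩)
      (fun y hy => by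
        obtain ⟨hy1, hy2⟩ := Finset.mem_sdiff.1 hy
        refine Finset.mem_sdiff.2 ⟨hS y hy1, fun h => hy2 ?_⟩
        obtain ⟨j, -, hj⟩ := Finset.mem_image.1 h
        have : y = (σ ^ (j + (p - 1))) i := by
          apply σ.injective
          rw [← hj, ← Equiv.Perm.mul_apply σ, ← pow_succ', show j + (p - 1) + 1 = j + p by omega,
            pow_add, hσ, mul_one]
        rw [this]; exact hmemO _)
      (fun y hy => hne y (Finset.mem_sdiff.1 hy).1)
    refine ⟨insert i R, Finset.insert_subset hi (hRS.trans Finset.sdiff_subset), fun y hy => ?_, ?_⟩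
    · by_cases hyO : y ∈ O
      · obtain ⟨j, -, rfl⟩ := Finset.mem_image.1 hyO
        exact ⟨i, Finset.mem_insert_self i R, j, rfl⟩
      · obtain ⟨r, hr, h⟩ := hR y (Finset.mem_sdiff.2 ⟨hy, hyO⟩)
        exact ⟨r, Finset.mem_insert_of_mem hr, h⟩
    · have hiR : i ∉ R := fun h => (Finset.mem_sdiff.1 (hRS h)).2 (by simpa using hmemO 0)
      rw [Finset.card_insert_of_notMem hiR, mul_add, hRc, mul_one, ← hOc,
        Finset.card_sdiff_add_card_eq_card hOS]
  set Fx := Finset.univ.filter fun i => σ i = i with hFx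
  obtain ⟨R, hRS, hR, hRc⟩ := key Fxᶜ
    (fun i hi => by
      simp only [Fx, Finset.mem_compl, Finset.mem_filter, Finset.mem_univ, true_and] at hi ⊢
      exact fun h => hi (σ.injective h))
    (fun i hi => by
      simpa [Fx] using hi)
  refine ⟨Fx ∪ R, fun i => ?_, ?_⟩
  · by_cases hi : i ∈ Fx
    · exact ⟨i, Finset.mem_union_left _ hi, 0, by simp⟩
    · obtain ⟨r, hr, h⟩ := hR i (Finset.mem_compl.2 hi)
      exact ⟨r, Finset.mem_union_right _ hr, h⟩
  · rw [Finset.card_union_of_disjoint (Finset.disjoint_left.2 fun i hi hi' =>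
      Finset.mem_compl.1 (hRS hi') hi), mul_add, hRc, Finset.card_compl, Nat.sub_mul, one_mul]
    have := Fx.card_le_univ
    have h1 : Fx.card ≤ p * Fx.card := Nat.le_mul_of_pos_left _ hp.out.pos
    omega

end Cfsg.Lib.HalfFixed
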