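import Cfsg.Agent.Coprime.HalfFixed.Commutant

/-!
The faithful irreducible case over an algebraically closed field.
-/

set_option autoImplicit false
set_option linter.style.haveILetI false
set_option linter.unusedSectionVars false

namespace Cfsg.Lib.HalfFixed

open Module
open scoped commutatorElement

universe u v w

variable {k : Type u} [Field k] {V : Type v} [AddCommGroup V] [Module k V] [FiniteDimensional k V]

/-- the bound for the groups of order less than `n`, over prime fields -/
def BoundBelow (p n : ℕ) : Prop :=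
  ∀ (G : Type w) [Group G] [Finite G] [Group.IsSolvable G] (q : ℕ) [Fact q.Prime] (T : Type w)
    [AddCommGroup T] [Module (ZMod q) T] [Finite T] (τ : G →* End (ZMod q) T) (x : G),
    Nat.card G < n → Subgroup.normalClosure {x} = ⊤ → x ^ p = 1 → Irr τ → τ x ≠ 1 →
      2 * finrank (ZMod q) (LinearMap.ker (τ x - 1)) < finrank (ZMod q) T

set_option maxHeartbeats 1600000 in
theorem core [IsAlgClosed k] [Nontrivial V] {G : Type w} [Group G] [Finite G] [Group.IsSolvable G]
    {p : ℕ} [Fact p.Prime] (hp : 3 < p) (hT : BoundBelow.{w} p (Nat.card G))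
    (ρ : G →* End k V) (hρ : Function.Injective ρ) (hirr : Irr ρ) {x : G}
    (hgen : Subgroup.normalClosure {x} = ⊤) (hxp : x ^ p = 1) (hx : ρ x ≠ 1) :
    2 * finrank k (LinearMap.ker (ρ x - 1)) < finrank k V := by
  classical
  by_cases hab : ∀ N : Subgroup G, N.Normal → (∀ a ∈ N, ∀ b ∈ N, a * b = b * a) →
      ∀ n ∈ N, ∃ c : k, ρ n = c • 1
  swap
  · push Not at hab
    obtain ⟨N, hN, hNc, n, hn, hns⟩ := hab
    exact abelian_case hp ρ hirr hgen hxp N hNc fun h => (h n hn).elim hns
  -- scalars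
  have scal_inj : ∀ a b : k, a • (1 : End k V) = b • 1 → a = b :=
    fun a b h => smul_left_injective k (one_ne_zero (α := End k V)) h
  let Z : Subgroup G :=
    { carrier := {g | ∃ c : k, ρ g = c • 1}
      one_mem' := ⟨1, by simp⟩
      mul_mem' := fun {a b} ⟨c, hc⟩ ⟨d, hd⟩ => ⟨c * d, by
        rw [map_mul, hc, hd, smul_mul_smul_comm, mul_one]⟩
      inv_mem' := fun {a} ⟨c, hc⟩ => by
        have h1 : ρ a * ρ a⁻¹ = 1 := by rw [← map_mul, mul_inv_cancel, map_one]
        rw [hc, smul_mul_assoc, one_mul] at h1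
        have hc0 : c ≠ 0 := fun h => by
          rw [h, zero_smul] at h1; exact one_ne_zero h1.symm
        exact ⟨c⁻¹, by rw [← h1, smul_smul, inv_mul_cancel₀ hc0, one_smul]⟩ }
  have hZc : ∀ z ∈ Z, ∀ g : G, z * g = g * z := fun z ⟨c, hc⟩ g => hρ (by
    rw [map_mul, map_mul, hc, smul_mul_assoc, one_mul, mul_smul_comm, mul_one])
  haveI hZn : Z.Normal := ⟨fun z hz g => by rw [← hZc z hz g, mul_inv_cancel_right]; exact hz⟩
  by_cases hxZ : x ∈ Z
  · obtain ⟨c, hc⟩ := hxZ
    have : LinearMap.ker (ρ x - 1) = ⊥ := by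
      rw [Submodule.eq_bot_iff]
      intro v hv
      rw [LinearMap.mem_ker, hc, LinearMap.sub_apply, LinearMap.smul_apply, End.one_apply,
        ← one_smul k v, smul_smul, mul_one, ← sub_smul, smul_eq_zero] at hv
      exact hv.resolve_left fun h => hx (by rw [hc, sub_eq_zero.1 h, one_smul])
    rw [this, finrank_bot]
    exact finrank_pos
  -- a minimal noncentral normal subgroup
  obtain ⟨E, ⟨hEn, hEZ⟩, hmin⟩ := (InvImage.wf (fun E : Subgroup G => Nat.card E) Nat.lt_wfRel.wf).has_min
    {E | E.Normal ∧ ¬ E ≤ Z} ⟨⊤, inferInstance, fun h => hxZ (h (Subgroup.mem_top x))⟩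
  haveI := hEn
  have hsmall : ∀ F : Subgroup G, F.Normal → F ≤ E → F ≠ E → F ≤ Z := fun F hF hle hne => by
    by_contra h
    exact hne (Subgroup.eq_of_le_of_card_ge hle (not_lt.1 (hmin F ⟨hF, h⟩)))
  have hder : ⁅E, E⁆ ≤ Z := by
    refine hsmall _ (Subgroup.commutator_normal E E) (Subgroup.commutator_le_right E E) fun h => ?_
    haveI : Nontrivial E := (Subgroup.nontrivial_iff_ne_bot E).2 fun h => hEZ (h ▸ bot_le)
    refine (Group.IsSolvable.commutator_lt_top_of_nontrivial (G := E)).ne ?_
    apply Subgroup.map_injective E.subtype_injective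
    rw [Subgroup.map_subtype_commutator, h, ← MonoidHom.range_eq_map, Subgroup.range_subtype]
  have hcomm : ∀ f e : E, ⁅(f : G), (e : G)⁆ ∈ Z := fun f e =>
    hder (Subgroup.commutator_mem_commutator f.2 e.2)
  choose ω hω using hcomm
  have smul_smul_one : ∀ a b : k, (a • (1 : End k V)) * (b • 1) = (a * b) • 1 := fun a b => by
    rw [smul_mul_smul_comm, mul_one]
  have hω0 : ∀ f e, ω f e ≠ 0 := fun f e h0 => by
    have h := hω f e
    rw [h0, zero_smul] at h
    have h1 : ρ ⁅(f : G), (e : G)⁆ * ρ ⁅(f : G), (e : G)⁆⁻¹ = 1 := by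
      rw [← map_mul, mul_inv_cancel, map_one]
    rw [h, zero_mul] at h1
    exact one_ne_zero h1.symm
  have hcen : ∀ (f e : E) (g : G), g * ⁅(f : G), (e : G)⁆ * g⁻¹ = ⁅(f : G), (e : G)⁆ := fun f e g => by
    rw [← hZc _ ⟨_, hω f e⟩ g, mul_inv_cancel_right]
  have hωL : ∀ f g e : E, ω (f * g) e = ω f e * ω g e := by
    intro f g e
    apply scal_inj
    rw [← hω, mul_comm, ← smul_smul_one, ← hω, ← hω, ← map_mul]
    congr 1
    calc ⁅((f * g : E) : G), (e : G)⁆ = (f : G) * ⁅(g : G), (e : G)⁆ * (f : G)⁻¹ * ⁅(f : G), (e : G)⁆ := by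
          simp only [Subgroup.coe_mul, commutatorElement_def]; group
      _ = _ := by rw [hcen]
  have hωR : ∀ f g e : E, ω f (g * e) = ω f g * ω f e := by
    intro f g e
    apply scal_inj
    rw [← hω, ← smul_smul_one, ← hω, ← hω, ← map_mul]
    congr 1
    calc ⁅(f : G), ((g * e : E) : G)⁆ = ⁅(f : G), (g : G)⁆ * ((g : G) * ⁅(f : G), (e : G)⁆ * (g : G)⁻¹) := by
          simp only [Subgroup.coe_mul, commutatorElement_def]; group
      _ = _ := by rw [hcen]
  have hωeq : ∀ f e, ω f e = 1 ↔ (f : G) * e = e * f := fun f e => by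
    rw [← commutatorElement_eq_one_iff_mul_comm]
    constructor
    · intro h; apply hρ; rw [hω, h, one_smul, map_one]
    · intro h
      apply scal_inj
      rw [← hω, h, map_one, one_smul]
  have hnd : ∀ e : E, (∀ f, ω f e = 1) → (e : G) ∈ Z := by
    intro e he
    set R := E ⊓ Subgroup.centralizer (E : Set G)
    refine hab R inferInstance (fun a ha b hb => ?_) _ ⟨e.2, Subgroup.mem_centralizer_iff.2 fun f hf => ?_⟩
    · exact (Subgroup.mem_centralizer_iff.1 ha.2 b hb.1).symm
    · exact (hωeq ⟨f, hf⟩ e).1 (he _)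
  have hnd' : ∀ f : E, (∀ e, ω f e = 1) → (f : G) ∈ Z := fun f hf =>
    hnd f fun e => (hωeq e f).2 ((hωeq f e).1 (hf e)).symm
  -- the quotient `T = E / (E ∩ Z)`
  set ZE := Z.subgroupOf E with hZE
  let T := E ⧸ ZE
  have hTc : ∀ a b : T, a * b = b * a := by
    intro a b
    induction a using QuotientGroup.induction_on with
    | H f =>
    induction b using QuotientGroup.induction_on with
    | H e =>
    show (((f * e : E)) : T) = ((e * f : E) : T)
    refine (QuotientGroup.eq).2 ?_
    show (((f * e)⁻¹ * (e * f) : E) : G) ∈ Z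
    have : (((f * e)⁻¹ * (e * f) : E) : G) = ⁅((e⁻¹ : E) : G), ((f⁻¹ : E) : G)⁆ := by
      simp [commutatorElement_def, mul_assoc]
    rw [this]; exact ⟨_, hω _ _⟩
  haveI : Nontrivial T := by
    rw [← not_subsingleton_iff_nontrivial]
    intro h
    exact hEZ fun e he => (QuotientGroup.eq_one_iff (⟨e, he⟩ : E)).1 (Subsingleton.elim _ (1 : T))
  obtain ⟨q, hq, hqd⟩ := Nat.exists_prime_and_dvd (n := Nat.card T) (Finite.one_lt_card (α := T)).ne'
  haveI := Fact.mk hq
  have hexp : ∀ t : T, t ^ q = 1 := by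
    let S : Subgroup G :=
      { carrier := {g | ∃ h : g ∈ E, (((⟨g, h⟩ : E) : T)) ^ q = 1}
        one_mem' := ⟨E.one_mem, by
          show (((1 : E) : T)) ^ q = 1
          rw [QuotientGroup.mk_one, one_pow]⟩
        mul_mem' := fun {a b} ⟨ha, ha'⟩ ⟨hb, hb'⟩ => ⟨E.mul_mem ha hb, by
          show (((⟨a, ha⟩ * ⟨b, hb⟩ : E) : T)) ^ q = 1
          rw [QuotientGroup.mk_mul, (show Commute _ _ from hTc _ _).mul_pow, ha', hb', one_mul]⟩
        inv_mem' := fun {a} ⟨ha, ha'⟩ => ⟨E.inv_mem ha, by
          show ((((⟨a, ha⟩ : E))⁻¹ : E) : T) ^ q = 1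
          rw [QuotientGroup.mk_inv, inv_pow, ha', inv_one]⟩ }
    have hSn : S.Normal := ⟨fun s ⟨hs, hs'⟩ g => ⟨hEn.conj_mem s hs g, by
      rw [← QuotientGroup.mk_pow, QuotientGroup.eq_one_iff, hZE, Subgroup.mem_subgroupOf] at hs' ⊢
      have := hZn.conj_mem _ hs' g
      simpa [conj_pow] using this⟩⟩
    have hSE : S = E := by
      by_contra h
      obtain ⟨t, ht⟩ := exists_prime_orderOf_dvd_card' q hqd
      induction t using QuotientGroup.induction_on with
      | H e =>
      have he : (e : G) ∈ S := ⟨e.2, by rw [← ht]; exact pow_orderOf_eq_one _⟩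
      have := hsmall S hSn (fun g hg => hg.1) h he
      rw [(QuotientGroup.eq_one_iff e).2 this, orderOf_one] at ht
      exact hq.ne_one ht.symm
    intro t
    induction t using QuotientGroup.induction_on with
    | H e =>
    obtain ⟨_, he⟩ := hSE.ge e.2
    exact he
  -- the pairing on `T`
  have hωZ : ∀ z ∈ ZE, ∀ e, ω z e = 1 := fun z hz e => (hωeq z e).2 (hZc _ hz _)
  have hωZ' : ∀ z ∈ ZE, ∀ f, ω f z = 1 := fun z hz f => (hωeq f z).2 (hZc _ hz _).symm
  have hout : ∀ e : E, ∃ z ∈ ZE, ((e : T)).out = e * z := fun e => by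
    obtain ⟨z, hz⟩ := QuotientGroup.mk_out_eq_mul ZE e
    exact ⟨z, z.2, hz⟩
  let Ω : T → T → k := fun s t => ω s.out t.out
  have hΩ : ∀ f e : E, Ω f e = ω f e := fun f e => by
    obtain ⟨z, hz, hz'⟩ := hout f
    obtain ⟨y, hy, hy'⟩ := hout e
    show ω _ _ = _
    rw [hz', hy', hωL, hωR, hωR, hωZ' y hy, hωZ z hz, hωZ z hz, mul_one, mul_one, mul_one]
  have hΩL : ∀ r s t, Ω (r * s) t = Ω r t * Ω s t := by
    intro r s t
    induction r using QuotientGroup.induction_on with
    | H f =>
    induction s using QuotientGroup.induction_on with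
    | H g =>
    induction t using QuotientGroup.induction_on with
    | H e => rw [← QuotientGroup.mk_mul, hΩ, hΩ, hΩ, hωL]
  have hΩR : ∀ r s t, Ω r (s * t) = Ω r s * Ω r t := by
    intro r s t
    induction r using QuotientGroup.induction_on with
    | H f =>
    induction s using QuotientGroup.induction_on with
    | H g =>
    induction t using QuotientGroup.induction_on with
    | H e => rw [← QuotientGroup.mk_mul, hΩ, hΩ, hΩ, hωR]
  have hΩ0 : ∀ s t, Ω s t ≠ 0 := fun s t => hω0 _ _
  have hΩ1 : ∀ t, Ω 1 t = 1 := fun t => by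
    have := hΩL 1 1 t
    rw [mul_one] at this
    exact (mul_eq_left₀ (hΩ0 1 t)).1 this.symm
  have hΩ1' : ∀ s, Ω s 1 = 1 := fun s => by
    have := hΩR s 1 1
    rw [mul_one] at this
    exact (mul_eq_left₀ (hΩ0 s 1)).1 this.symm
  have hΩnd : ∀ t, (∀ s, Ω s t = 1) → t = 1 := by
    intro t ht
    induction t using QuotientGroup.induction_on with
    | H e => exact (QuotientGroup.eq_one_iff e).2 (hnd e fun f => by rw [← hΩ]; exact ht f)
  have hΩnd' : ∀ s, (∀ t, Ω s t = 1) → s = 1 := by
    intro s hs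
    induction s using QuotientGroup.induction_on with
    | H e => exact (QuotientGroup.eq_one_iff e).2 (hnd' e fun f => by rw [← hΩ]; exact hs f)
  -- the action on `End V`
  let cj : E →* End k (End k V) :=
    { toFun := fun f => LinearMap.mulLeft k (ρ f) ∘ₗ LinearMap.mulRight k (ρ (f : G)⁻¹)
      map_one' := LinearMap.ext fun φ => by simp
      map_mul' := fun f g => LinearMap.ext fun φ => by simp [mul_assoc] }
  have hcj : ∀ (f : E) φ, cj f φ = ρ f * φ * ρ (f : G)⁻¹ := fun f φ => by simp [cj, mul_assoc]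
  have hcjZ : ZE ≤ cj.ker := fun z hz => MonoidHom.mem_ker.2 (LinearMap.ext fun φ => by
    obtain ⟨c, hc⟩ := (hz : (z : G) ∈ Z)
    replace hc : ρ (z : G) = c • 1 := hc
    have h1 : ρ z * ρ (z : G)⁻¹ = 1 := by rw [← map_mul, mul_inv_cancel, map_one]
    rw [hc, smul_mul_assoc, one_mul] at h1
    rw [hcj, End.one_apply, hc, smul_mul_assoc, one_mul, smul_mul_assoc, ← mul_smul_comm, h1, mul_one])
  let L : T →* End k (End k V) := QuotientGroup.lift ZE cj hcjZ
  let χ : T → T → k := fun t s => Ω s t
  have hχinj : Function.Injective χ := fun t t' h => inv_mul_eq_one.1 (hΩnd _ fun s => by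
    have h1 : Ω s t = Ω s t' := congrFun h s
    have h2 := hΩR s t⁻¹ t
    rw [inv_mul_cancel, hΩ1'] at h2
    rw [hΩR, ← h1, ← h2])
  let W : T → Submodule k (End k V) := fun t => ⨅ s, (L s).eigenspace (χ t s)
  have hWmem : ∀ t φ, φ ∈ W t ↔ ∀ f : E, ρ f * φ * ρ (f : G)⁻¹ = Ω f t • φ := by
    intro t φ
    simp only [W, Submodule.mem_iInf, End.mem_eigenspace_iff]
    refine ⟨fun h f => ?_, fun h s => ?_⟩
    · rw [← hcj]; exact h f
    · induction s using QuotientGroup.induction_on with
      | H f => rw [show L (f : T) = cj f from rfl, hcj]; exact h f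
  have hind : iSupIndep W := (weights_indep L hTc).comp hχinj
  haveI := Fintype.ofFinite T
  -- `q` is invertible
  have hTk : (Nat.card T : k) ≠ 0 := by
    intro h0
    have hTq : IsPGroup q T := fun t => ⟨1, by rw [pow_one]; exact hexp t⟩
    obtain ⟨d, hd⟩ := IsPGroup.iff_card.1 hTq
    rw [hd, Nat.cast_pow] at h0
    have hq0 : (q : k) = 0 := eq_zero_of_pow_eq_zero h0
    haveI : CharP k q := ringChar.of_eq (CharP.ringChar_of_prime_eq_zero hq hq0)
    obtain ⟨s, hs⟩ := exists_ne (1 : T)
    refine hs (hΩnd' s fun t => ?_)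
    have h1 : Ω s t ^ q = 1 := by
      have key : ∀ n : ℕ, Ω (s ^ n) t = Ω s t ^ n := fun n => by
        induction n with
        | zero => rw [pow_zero, pow_zero, hΩ1]
        | succ n ih => rw [pow_succ, pow_succ, hΩL, ih]
      rw [← key, hexp, hΩ1]
    have h2 : (Ω s t - 1) ^ q = 0 := by rw [sub_pow_char, h1, one_pow, sub_self]
    exact sub_eq_zero.1 (eq_zero_of_pow_eq_zero h2)
  have htop : ⨆ t, W t = ⊤ := by
    rw [eq_top_iff]
    intro φ _
    let P : T → End k V := fun t => ∑ s, (Ω s t)⁻¹ • L s φ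
    have hP : ∀ t, P t ∈ W t := fun t => by
      simp only [W, Submodule.mem_iInf, End.mem_eigenspace_iff]
      intro r
      simp only [P, map_sum, map_smul, Finset.smul_sum, smul_smul]
      refine Fintype.sum_equiv (Equiv.mulLeft r) _ _ fun s => ?_
      rw [Equiv.coe_mulLeft, map_mul, End.mul_apply]
      congr 1
      show (Ω s t)⁻¹ = Ω r t * (Ω (r * s) t)⁻¹
      rw [hΩL, mul_inv, ← mul_assoc, mul_inv_cancel₀ (hΩ0 r t), one_mul]
    have horth : ∀ s : T, s ≠ 1 → ∑ t, (Ω s t)⁻¹ = 0 := by
      intro s hs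
      obtain ⟨t0, ht0⟩ : ∃ t, Ω s t ≠ 1 := by
        by_contra h
        push Not at h
        exact hs (hΩnd' s h)
      have h1 : (Ω s t0)⁻¹ * ∑ t, (Ω s t)⁻¹ = ∑ t, (Ω s t)⁻¹ := by
        rw [Finset.mul_sum]
        exact Fintype.sum_equiv (Equiv.mulLeft t0) _ _ fun t => by
          rw [Equiv.coe_mulLeft, hΩR, mul_inv]
      by_contra h
      exact ht0 (inv_eq_one.1 ((mul_eq_right₀ h).1 h1))
    have hsum : ∑ t, P t = (Nat.card T : k) • φ := by
      simp only [P]
      rw [Finset.sum_comm, Finset.sum_eq_single (1 : T)]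
      · simp [hΩ1, Nat.card_eq_fintype_card, ← Nat.cast_smul_eq_nsmul k]
      · intro s _ hs; rw [← Finset.sum_smul, horth s hs, zero_smul]
      · simp
    rw [← inv_smul_smul₀ hTk φ, ← hsum]
    exact Submodule.smul_mem _ _ (sum_mem fun t _ => Submodule.mem_iSup_of_mem t (hP t))
  set d := finrank k (W 1) with hd0
  have hd : ∀ t, finrank k (W t) = d := by
    have hmul : ∀ (e : E) (t : T), ∀ φ ∈ W t, ρ e * φ ∈ W ((e : T) * t) := by
      intro e t φ hφ
      rw [hWmem] at hφ ⊢
      intro f
      have hc : (f : G) * e = ⁅(f : G), (e : G)⁆ * e * f := by rw [commutatorElement_def]; group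
      calc ρ f * (ρ e * φ) * ρ (f : G)⁻¹ = ρ ((f : G) * e) * φ * ρ (f : G)⁻¹ := by
            rw [map_mul]; simp only [mul_assoc]
        _ = ρ ⁅(f : G), (e : G)⁆ * (ρ e * (ρ f * φ * ρ (f : G)⁻¹)) := by
            rw [hc, map_mul, map_mul]; simp only [mul_assoc]
        _ = _ := by
            rw [hφ f, hω, smul_mul_assoc, one_mul, mul_smul_comm, smul_smul, hΩR, hΩ]
    have key : ∀ t t', finrank k (W t) ≤ finrank k (W t') := by
      intro t t'
      obtain ⟨e, he⟩ := QuotientGroup.mk_surjective (t' * t⁻¹)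
      have he' : (e : T) * t = t' := by rw [he, inv_mul_cancel_right]
      let M : W t →ₗ[k] W t' := (LinearMap.mulLeft k (ρ e)).restrict fun φ hφ => he' ▸ hmul e t φ hφ
      refine LinearMap.finrank_le_finrank_of_injective (f := M) fun a b h => Subtype.ext ?_
      have h1 : ρ e * (a : End k V) = ρ e * (b : End k V) := congrArg Subtype.val h
      have h2 := congrArg (fun φ => ρ (e : G)⁻¹ * φ) h1
      simpa [← mul_assoc, ← map_mul] using h2
    exact fun t => le_antisymm (key t 1) (key 1 t)
  obtain ⟨hN, hfixb⟩ := blocks hind htop hd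
  -- the automorphism induced by `x`
  let cT : G →* MulAut T :=
    { toFun := fun g => QuotientGroup.congr ZE ZE (MulAut.conjNormal g) (by
        ext e
        constructor
        · rintro ⟨z, hz, rfl⟩
          show _ ∈ Z
          simpa using hZn.conj_mem _ hz g
        · intro he
          refine ⟨(MulAut.conjNormal g).symm e, ?_, (MulAut.conjNormal g).apply_symm_apply e⟩
          show _ ∈ Z
          simpa using hZn.conj_mem _ he g⁻¹)
      map_one' := MulEquiv.ext fun t => by
        induction t using QuotientGroup.induction_on with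
        | H e => simp
      map_mul' := fun g h => MulEquiv.ext fun t => by
        induction t using QuotientGroup.induction_on with
        | H e => simp }
  have hcT : ∀ (g : G) (e : E), cT g (e : T) = ((MulAut.conjNormal g e : E) : T) := fun g e => rfl
  let σ : Equiv.Perm T := (cT x).toEquiv
  have hσp : σ ^ p = 1 := by
    have key : ∀ n : ℕ, ∀ t, (σ ^ n) t = cT (x ^ n) t := fun n => by
      induction n with
      | zero => intro t; simp
      | succ n ih =>
        intro t
        rw [pow_succ, Equiv.Perm.mul_apply, ih, map_pow, map_pow, pow_succ, MulAut.mul_apply]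
        rfl
    refine Equiv.ext fun t => ?_
    rw [key, hxp, map_one]
    rfl
  let fx : End k (End k V) := LinearMap.mulLeft k (ρ x) ∘ₗ LinearMap.mulRight k (ρ x⁻¹)
  have hfx : ∀ φ, fx φ = ρ x * φ * ρ x⁻¹ := fun φ => by simp [fx, mul_assoc]
  have hxx : ρ x⁻¹ * ρ x = 1 := by rw [← map_mul, inv_mul_cancel, map_one]
  have hxx' : ρ x * ρ x⁻¹ = 1 := by rw [← map_mul, mul_inv_cancel, map_one]
  have hmap : ∀ t, ∀ φ ∈ W t, fx φ ∈ W (σ t) := by
    intro t φ hφ
    rw [hfx, hWmem] at *
    intro f
    set f' : E := MulAut.conjNormal x⁻¹ f with hf'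
    have hf'G : (f' : G) = x⁻¹ * f * x := by rw [hf', MulAut.conjNormal_apply]; group
    have hΩeq : Ω (f : T) (σ t) = Ω f' t := by
      induction t using QuotientGroup.induction_on with
      | H e =>
      show Ω _ (cT x e) = _
      rw [hcT, hΩ, hΩ]
      apply scal_inj
      rw [← hω, ← hω]
      congr 1
      rw [← hcen f' e x, hf'G, MulAut.conjNormal_apply, commutatorElement_def, commutatorElement_def]
      group
    calc ρ f * (ρ x * φ * ρ x⁻¹) * ρ (f : G)⁻¹ = ρ ((f : G) * x) * φ * ρ (x⁻¹ * (f : G)⁻¹) := by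
          rw [map_mul, map_mul]; simp only [mul_assoc]
      _ = ρ x * (ρ f' * φ * ρ (f' : G)⁻¹) * ρ x⁻¹ := by
          rw [show (f : G) * x = x * f' by rw [hf'G]; group,
            show x⁻¹ * (f : G)⁻¹ = (f' : G)⁻¹ * x⁻¹ by rw [hf'G]; group, map_mul, map_mul]
          simp only [mul_assoc]
      _ = _ := by rw [hφ f', hΩeq, mul_smul_comm, smul_mul_assoc]
  have hfix := hfixb p fx σ hσp hmap
  -- the bound on the fixed points in `T`
  letI : CommGroup T := { mul_comm := hTc }
  letI : Module (ZMod q) (Additive T) := AddCommGroup.zmodModule (n := q) (fun t => hexp (Additive.toMul t))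
  let τ : G →* End (ZMod q) (Additive T) :=
    { toFun := fun g => AddMonoidHom.toZModLinearMap q (MonoidHom.toAdditive (cT g).toMonoidHom)
      map_one' := LinearMap.ext fun t => by
        show Additive.ofMul (cT 1 t.toMul) = t
        rw [map_one]; rfl
      map_mul' := fun g h => LinearMap.ext fun t => by
        show Additive.ofMul (cT (g * h) t.toMul) = Additive.ofMul (cT g (cT h t.toMul))
        rw [map_mul]; rfl }
  have hτ : ∀ g (t : T), τ g (Additive.ofMul t) = Additive.ofMul (cT g t) := fun g t => rfl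
  have hirrT : Irr τ := by
    intro U hU
    let F : Subgroup G :=
      { carrier := {g | ∃ h : g ∈ E, Additive.ofMul ((⟨g, h⟩ : E) : T) ∈ U}
        one_mem' := ⟨E.one_mem, U.zero_mem⟩
        mul_mem' := fun {a b} ⟨ha, ha'⟩ ⟨hb, hb'⟩ => ⟨E.mul_mem ha hb, U.add_mem ha' hb'⟩
        inv_mem' := fun {a} ⟨ha, ha'⟩ => ⟨E.inv_mem ha, U.neg_mem ha'⟩ }
    have hFn : F.Normal := ⟨fun g ⟨hg, hg'⟩ h => ⟨hEn.conj_mem g hg h, by
      have h1 := hU h _ hg'
      rw [hτ, hcT] at h1
      convert h1 using 3
      exact Subtype.ext (by simp)⟩⟩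
    rcases eq_or_ne F E with h | h
    · right
      rw [eq_top_iff]
      intro t _
      obtain ⟨e, he⟩ := QuotientGroup.mk_surjective t.toMul
      obtain ⟨_, he'⟩ := h.ge e.2
      have : t = Additive.ofMul (e : T) := (congrArg Additive.ofMul he).symm
      rw [this]; exact he'
    · left
      rw [Submodule.eq_bot_iff]
      intro t ht
      obtain ⟨e, he⟩ := QuotientGroup.mk_surjective t.toMul
      have : (e : G) ∈ F := ⟨e.2, show Additive.ofMul (e : T) ∈ U by rw [he]; exact ht⟩
      have := hsmall F hFn (fun g hg => hg.1) h this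
      rw [← toMul_eq_one, ← he]
      exact (QuotientGroup.eq_one_iff e).2 this
  -- `E` centralises `T`
  have hEker : ∀ e : E, cT e = 1 := fun e => MulEquiv.ext fun t => by
    induction t using QuotientGroup.induction_on with
    | H f =>
    rw [hcT, MulAut.one_apply]
    show ((MulAut.conjNormal (e : G) f : E) : T) = _
    rw [show (MulAut.conjNormal (e : G) f : E) = e * f * e⁻¹ from Subtype.ext (by simp),
      QuotientGroup.mk_mul, QuotientGroup.mk_mul, hTc (e : T), QuotientGroup.mk_inv, mul_inv_cancel_right]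
  have hxT : cT x ≠ 1 := by
    intro h1
    have hall : ∀ g, cT g = 1 := fun g => by
      have : Subgroup.normalClosure {x} ≤ cT.ker :=
        Subgroup.normalClosure_le_normal (Set.singleton_subset_iff.2 (MonoidHom.mem_ker.2 h1))
      exact MonoidHom.mem_ker.1 (this (hgen ▸ Subgroup.mem_top g))
    obtain ⟨s, hs⟩ := exists_ne (1 : T)
    let U : Submodule (ZMod q) (Additive T) := Submodule.span _ {Additive.ofMul s}
    have hUtop : U = ⊤ := (hirrT U fun g v hv => by
      rw [show τ g v = Additive.ofMul (cT g v.toMul) from rfl, hall]; exact hv).resolve_left fun h =>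
        hs (Additive.ofMul.injective ((Submodule.span_singleton_eq_bot).1 h))
    -- `T` is cyclic
    refine hs (hΩnd s fun r => ?_)
    have hgenT : ∀ t : T, ∃ n : ℕ, s ^ n = t := fun t => by
      obtain ⟨a, ha⟩ := Submodule.mem_span_singleton.1 (hUtop.ge (Submodule.mem_top : Additive.ofMul t ∈ _))
      refine ⟨a.val, Additive.ofMul.injective ?_⟩
      rw [ofMul_pow, ← ha, ← ZMod.natCast_zmod_val a, Nat.cast_smul_eq_nsmul]
      simp
    obtain ⟨n, rfl⟩ := hgenT r
    have hss : Ω s s = 1 := by
      show ω _ _ = 1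
      rw [hωeq]
    induction n with
    | zero => rw [pow_zero, hΩ1]
    | succ n ih => rw [pow_succ, hΩL, ih, hss, one_mul]
  have hτx : τ x ≠ 1 := fun h => hxT (MulEquiv.ext fun t =>
    Additive.ofMul.injective (LinearMap.congr_fun h (Additive.ofMul t)))
  -- descend to the image
  set K := cT.ker
  let τ' : G ⧸ K →* End (ZMod q) (Additive T) := QuotientGroup.lift K τ fun g hg =>
    MonoidHom.mem_ker.2 (LinearMap.ext fun t => by
      show Additive.ofMul (cT g t.toMul) = t
      rw [MonoidHom.mem_ker.1 hg]; rfl)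
  have hcard : Nat.card (G ⧸ K) < Nat.card G := by
    rw [K.card_eq_card_quotient_mul_card_subgroup]
    have h1 : K ≠ ⊥ := fun h => hEZ fun e he => by
      have : e ∈ K := MonoidHom.mem_ker.2 (hEker ⟨e, he⟩)
      rw [h, Subgroup.mem_bot] at this
      rw [this]; exact Z.one_mem
    have h2 := (Subgroup.one_lt_card_iff_ne_bot K).2 h1
    nlinarith [Nat.card_pos (α := G ⧸ K)]
  have hgen' : Subgroup.normalClosure {((x : G ⧸ K))} = ⊤ := by
    rw [← Set.image_singleton (f := ((↑) : G → G ⧸ K))]
    show Subgroup.normalClosure (⇑(QuotientGroup.mk' K) '' {x}) = ⊤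
    rw [← Subgroup.map_normalClosure _ (QuotientGroup.mk' K)
      (QuotientGroup.mk'_surjective K), hgen, ← MonoidHom.range_eq_map, QuotientGroup.range_mk']
  have hTb := hT (G ⧸ K) q (Additive T) τ' (x : G ⧸ K) hcard hgen'
    (by rw [← QuotientGroup.mk_pow, hxp, QuotientGroup.mk_one])
    (fun U hU => hirrT U fun g v hv => hU (g : G ⧸ K) v hv) hτx
  change 2 * finrank (ZMod q) (LinearMap.ker (τ x - 1)) < _ at hTb
  set C := LinearMap.ker (τ x - 1) with hCdef
  have hTb' : 2 * finrank (ZMod q) C < finrank (ZMod q) (Additive T) := hTb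
  have hcardC : (Finset.univ.filter fun t => σ t = t).card = q ^ finrank (ZMod q) C := by
    rw [← Fintype.card_subtype, ← Nat.card_eq_fintype_card]
    have e1 : Nat.card C = q ^ finrank (ZMod q) C := by
      rw [Module.natCard_eq_pow_finrank (K := ZMod q), Nat.card_zmod]
    rw [← e1]
    refine Nat.card_congr (Additive.ofMul.subtypeEquiv fun t => ?_)
    show σ t = t ↔ Additive.ofMul t ∈ C
    rw [hCdef, LinearMap.mem_ker, LinearMap.sub_apply, sub_eq_zero, hτ, End.one_apply,
      Additive.ofMul.injective.eq_iff]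
    rfl
  have hcardT : Fintype.card T = q ^ finrank (ZMod q) (Additive T) := by
    rw [← Nat.card_eq_fintype_card, ← Nat.card_congr (Additive.ofMul : T ≃ Additive T).symm,
      Module.natCard_eq_pow_finrank (K := ZMod q), Nat.card_zmod]
  have hD2 : 2 ≤ finrank (ZMod q) (Additive T) - finrank (ZMod q) C := by
    have hpos : 0 < finrank (ZMod q) (Additive T) := finrank_pos
    by_contra h
    have : finrank (ZMod q) (Additive T) = 1 := by omega
    -- a one-dimensional `T` is cyclic, hence isotropic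
    obtain ⟨s, hs⟩ := exists_ne (1 : T)
    refine hs (hΩnd s fun r => ?_)
    obtain ⟨a, ha⟩ := (finrank_eq_one_iff_of_nonzero' (Additive.ofMul s)
      (fun h => hs (Additive.ofMul.injective h))).1 this (Additive.ofMul r)
    have hr : r = s ^ a.val := Additive.ofMul.injective (by
      rw [ofMul_pow, ← ha, ← ZMod.natCast_zmod_val a, Nat.cast_smul_eq_nsmul]
      simp)
    have hss : Ω s s = 1 := (hωeq _ _).2 rfl
    rw [hr]
    clear hr ha
    induction a.val with
    | zero => rw [pow_zero, hΩ1]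
    | succ n ih => rw [pow_succ, hΩL, ih, hss, one_mul]
  -- conclude
  obtain ⟨R, -, hR⟩ := exists_transversal (p := p) σ hσp
  have hdvd : p ∣ q ^ finrank (ZMod q) C * q ^ (finrank (ZMod q) (Additive T) - finrank (ZMod q) C) -
      q ^ finrank (ZMod q) C := by
    rw [← pow_add, Nat.add_sub_cancel' (Submodule.finrank_le C), ← hcardT, ← hcardC]
    have hle : (Finset.univ.filter fun t => σ t = t).card ≤ Fintype.card T := Finset.card_le_univ _
    set f := (Finset.univ.filter fun t => σ t = t).card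
    have h1 : Fintype.card T - f + p * f = p * R.card := by
      rw [hR, Nat.sub_mul, one_mul]
      have := Nat.le_mul_of_pos_left f (Fact.out : p.Prime).pos
      omega
    exact (Nat.dvd_add_left (dvd_mul_right p f)).1 ⟨R.card, h1⟩
  have harith := index_arith (Fact.out : p.Prime) hp hq rfl hD2 hdvd
  have hbig : 4 * (Fintype.card T + (p - 1) * (Finset.univ.filter fun t => σ t = t).card) ≤ p * Fintype.card T := by
    have hIT : (Finset.univ.filter fun t => σ t = t).card *
        q ^ (finrank (ZMod q) (Additive T) - finrank (ZMod q) C) = Fintype.card T := by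
      rw [hcardC, hcardT, ← pow_add, Nat.add_sub_cancel' (Submodule.finrank_le C)]
    set f := (Finset.univ.filter fun t => σ t = t).card
    set I := q ^ (finrank (ZMod q) (Additive T) - finrank (ZMod q) C)
    have h1 := Nat.mul_le_mul_left f harith
    have h4 : p - 4 + 4 = p := by omega
    calc 4 * (Fintype.card T + (p - 1) * f) = 4 * Fintype.card T + f * (4 * (p - 1)) := by ring
      _ ≤ 4 * Fintype.card T + f * ((p - 4) * I) := by linarith
      _ = 4 * Fintype.card T + (p - 4) * (f * I) := by ring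
      _ = (p - 4 + 4) * Fintype.card T := by rw [hIT]; ring
      _ = _ := by rw [h4]
  have hlow := sq_fixed_lt hx (LinearMap.ker (fx - 1)) fun φ hφ => by
    rw [LinearMap.mem_ker, LinearMap.sub_apply, sub_eq_zero, hfx, End.one_apply, hφ, mul_assoc, hxx', mul_one]
  rw [Module.finrank_linearMap] at hN
  set c := finrank k (LinearMap.ker (ρ x - 1))
  set Df := finrank k (LinearMap.ker (fx - 1))
  set N := finrank k V
  have h2 : p * (4 * Df) ≤ p * (N * N) := by
    rw [hN]
    calc p * (4 * Df) = 4 * (p * Df) := by ring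
      _ ≤ 4 * ((Fintype.card T + (p - 1) * (Finset.univ.filter fun t => σ t = t).card) * d) :=
        Nat.mul_le_mul_left _ hfix
      _ = (4 * (Fintype.card T + (p - 1) * (Finset.univ.filter fun t => σ t = t).card)) * d := by ring
      _ ≤ p * Fintype.card T * d := Nat.mul_le_mul_right _ hbig
      _ = _ := by ring
  have h3 : 4 * Df ≤ N * N := Nat.le_of_mul_le_mul_left h2 (Fact.out : p.Prime).pos
  nlinarith

end Cfsg.Lib.HalfFixed
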